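import Mathlib
import Cfsg.Agent.Lib.PGroup.RankTwoOddMain
import Cfsg.Agent.Lib.PGroup.PowerIndex
import Cfsg.Agent.Lib.PGroup.Frattini

/-!
`3`-groups of rank two with an element outside `M = C(Ω)` having cyclic centraliser of order `3` in `M`.
-/

set_option autoImplicit false
set_option linter.style.haveILetI false

open Subgroup
open scoped commutatorElement

namespace CfsgLib.LocalEvenB.IsolatedSylow

open CfsgLib.PGroup.RankTwoOdd

/-- The datum: maximal class and rank two at the prime three. -/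
structure Thin (G : Type*) [Group G] where
  /-- the normal elementary subgroup of order nine -/
  D : Data 3 G
  /-- the element outside `M` -/
  x0 : G
  idx : D.M.index = 3
  hx0 : x0 ∉ D.M
  fix0 : ∀ v ∈ D.M, x0 * v * x0⁻¹ = v → v ∈ zpowers D.z

namespace Thin

variable {G : Type*} [Group G] [Finite G] (T : Thin G) (hG : IsPGroup 3 G)

theorem z_pow : T.D.z ^ 3 = 1 := orderOf_dvd_iff_pow_eq_one.mp (dvd_of_eq T.D.z_ord)

theorem z_central (g : G) : g * T.D.z = T.D.z * g := Subgroup.mem_center_iff.mp T.D.z_center g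

theorem comm_z (g : G) {u : G} (hu : u ∈ zpowers T.D.z) : Commute g u := by
  obtain ⟨i, rfl⟩ := Subgroup.mem_zpowers_iff.mp hu
  exact (show Commute g T.D.z from T.z_central g).zpow_right i

theorem conj_z (g : G) {u : G} (hu : u ∈ zpowers T.D.z) : g * u * g⁻¹ = u := by
  rw [(T.comm_z g hu).eq, mul_inv_cancel_right]

theorem z_le_A : zpowers T.D.z ≤ T.D.A := le_sup_left

/-- An element of `M` moved within `⟨z⟩` lies in the elementary subgroup. -/
theorem near0 {v : G} (hv : v ∈ T.D.M) (h : T.x0 * v * T.x0⁻¹ * v⁻¹ ∈ zpowers T.D.z) : v ∈ T.D.A := by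
  set c := T.x0 * v * T.x0⁻¹ * v⁻¹ with hc
  have hcv : T.x0 * v * T.x0⁻¹ = c * v := by rw [hc]; group
  have h3 : v ^ 3 ∈ zpowers T.D.z := by
    refine T.fix0 _ (pow_mem hv 3) ?_
    rw [← conj_pow, hcv, (T.comm_z v h).symm.mul_pow, pow_prime_eq_one_of_mem T.D.z_ord h, one_mul]
  by_cases hv3 : v ^ 3 = 1
  · exact T.D.mem_A_of_pow hv3 hv
  exfalso
  obtain ⟨j, hj⟩ := Subgroup.mem_zpowers_iff.mp (T.D.delta_mem T.x0 T.D.a_mem_A)
  obtain ⟨k, hk⟩ := Subgroup.mem_zpowers_iff.mp h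
  have hj0 : ¬ (3 : ℤ) ∣ j := by
    rintro ⟨t, rfl⟩
    rw [zpow_mul, zpow_ofNat, T.z_pow, one_zpow] at hj
    exact T.D.a_notMem (T.fix0 _ T.D.a_mem_M (mul_inv_eq_one.mp hj.symm))
  obtain ⟨a, b, hab⟩ := (Int.isCoprime_iff_gcd_eq_one.mpr (by
    have h3' : Nat.Coprime 3 j.natAbs := (Nat.prime_three.coprime_iff_not_dvd).mpr fun hd =>
      hj0 (Int.natCast_dvd.mpr hd)
    simpa [Int.gcd] using h3') : IsCoprime (3 : ℤ) j)
  set v' := v * T.D.a ^ (-(k * b)) with hv'
  have hv'M : v' ∈ T.D.M := mul_mem hv (zpow_mem T.D.a_mem_M _)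
  have hfix : T.x0 * v' * T.x0⁻¹ = v' := by
    have ha : T.x0 * T.D.a * T.x0⁻¹ = T.D.z ^ j * T.D.a := by rw [hj]; group
    have hza : Commute (T.D.z ^ j) T.D.a := (T.comm_z T.D.a (zpow_mem (mem_zpowers _) j)).symm
    calc T.x0 * v' * T.x0⁻¹ = (T.x0 * v * T.x0⁻¹) * (T.x0 * T.D.a * T.x0⁻¹) ^ (-(k * b)) := by
          rw [conj_zpow, hv']; group
      _ = T.D.z ^ k * v * (T.D.z ^ (j * -(k * b)) * T.D.a ^ (-(k * b))) := by
          rw [hcv, ← hk, ha, hza.mul_zpow, ← zpow_mul]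
      _ = T.D.z ^ (k + j * -(k * b)) * v' := by
          rw [zpow_add, hv', mul_assoc (T.D.z ^ k) v, ← mul_assoc v,
            (T.comm_z v (zpow_mem (mem_zpowers _) (j * -(k * b)))).eq]
          group
      _ = v' := by
          rw [show k + j * -(k * b) = 3 * (k * a) by linear_combination (-k) * hab, zpow_mul,
            zpow_ofNat, T.z_pow, one_zpow, one_mul]
  have hmem := pow_prime_eq_one_of_mem T.D.z_ord (T.fix0 v' hv'M hfix)
  rw [hv', (show Commute v (T.D.a ^ (-(k * b))) from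
    (T.D.commute_of_mem_A (zpow_mem T.D.a_mem_A _) hv).symm).mul_pow,
    T.D.pow_of_mem_A (zpow_mem T.D.a_mem_A _), mul_one] at hmem
  exact hv3 hmem

include hG in
/-- A subgroup of `M` normalised by an element `g` with the near property, all of whose elements of order
dividing three lie in `⟨z⟩`, lies in `⟨z⟩`. -/
theorem le_z {g : G} (hnear : ∀ v ∈ T.D.M, g * v * g⁻¹ * v⁻¹ ∈ zpowers T.D.z → v ∈ T.D.A) {K : Subgroup G}
    (hK : K ≤ T.D.M) (hgK : ∀ v ∈ K, g * v * g⁻¹ ∈ K) (hom : ∀ v ∈ K, v ^ 3 = 1 → v ∈ zpowers T.D.z) :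
    K ≤ zpowers T.D.z := by
  intro w
  obtain ⟨k, hk⟩ := hG w
  induction k generalizing w with
  | zero =>
    intro _
    rw [pow_zero, pow_one] at hk
    rw [hk]; exact one_mem _
  | succ k ih =>
    intro hw
    refine hom w hw ?_
    by_contra h1
    have h3 : w ^ 3 ∈ zpowers T.D.z := ih (show (w ^ 3) ^ 3 ^ k = 1 by rw [← pow_mul, ← pow_succ']; exact hk) (pow_mem hw 3)
    have hgw := hgK w hw
    have he : (g * w * g⁻¹) ^ 3 = w ^ 3 := by rw [conj_pow, T.conj_z g h3]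
    have hd : (w⁻¹ * (g * w * g⁻¹)) ^ 3 = 1 :=
      CfsgLib.PGroup.PCentralPow.inv_mul_pow_eq_one (by norm_num) hG T.D.central_in_M (hK hgw) (hK hw) he
    have hd' := hom _ (mul_mem (inv_mem hw) hgw) hd
    have hconj : g * w * g⁻¹ * w⁻¹ = w⁻¹ * (g * w * g⁻¹) := by
      have h := T.conj_z w hd'
      rw [← h]; group
    exact h1 (T.D.pow_of_mem_A (hnear w (hK hw) (hconj ▸ hd')))

include hG in
/-- The derived subgroup of `M` lies in `⟨z⟩`. -/
theorem comm_M {u v : G} (hu : u ∈ T.D.M) (hv : v ∈ T.D.M) : ⁅u, v⁆ ∈ zpowers T.D.z := by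
  haveI hMn := T.D.M_normal
  have hmeta : Cfsg.IsMetacyclic T.D.M := by
    refine CfsgLib.PGroup.PowerIndex.isMetacyclic (p := 3) (by norm_num) (hG.to_subgroup _) ?_
    have h1 := CfsgLib.PGroup.PCentralPow.card_le_powers (by norm_num) hG T.D.central_in_M (A := T.D.A)
      fun w hw h => T.D.mem_A_of_pow h hw
    rw [T.D.card_A] at h1
    set L := closure {w : G | ∃ m ∈ T.D.M, m ^ 3 = w}
    set L' : Subgroup T.D.M := closure {w : T.D.M | ∃ m : T.D.M, m ^ 3 = w}
    have hLL : L ≤ L'.map T.D.M.subtype := by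
      refine (closure_le _).mpr ?_
      rintro _ ⟨m, hm, rfl⟩
      exact ⟨⟨m, hm⟩ ^ 3, subset_closure ⟨⟨m, hm⟩, rfl⟩, rfl⟩
    have h2 : Nat.card L ≤ Nat.card L' := (card_le_of_le hLL).trans
      (card_map_of_injective (f := T.D.M.subtype) T.D.M.subtype_injective).le
    show L'.index ≤ 3 ^ 2
    have h3 := Subgroup.card_mul_index L'
    have h4 : 0 < Nat.card L' := Nat.card_pos
    refine Nat.le_of_mul_le_mul_left ?_ h4
    rw [h3]
    exact h1.trans (Nat.mul_le_mul_right _ h2)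
  set R : Subgroup G := ⁅T.D.M, T.D.M⁆ with hR
  have hRM : R ≤ T.D.M := Subgroup.commutator_le_self _
  obtain ⟨N, hNn, hNc, hNq⟩ := hmeta
  have hRN : R ≤ N.map T.D.M.subtype := by
    rw [hR, commutator_le]
    intro a ha b hb
    refine ⟨⁅(⟨a, ha⟩ : T.D.M), (⟨b, hb⟩ : T.D.M)⁆, ?_, rfl⟩
    refine (QuotientGroup.eq_one_iff _).mp ?_
    letI : CommGroup (T.D.M ⧸ N) := IsCyclic.commGroup
    have hmap := map_commutatorElement (QuotientGroup.mk' N) (⟨a, ha⟩ : T.D.M) ⟨b, hb⟩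
    exact hmap.trans (commutatorElement_eq_one_iff_mul_comm.mpr (mul_comm _ _))
  haveI : IsCyclic (N.map T.D.M.subtype) :=
    isCyclic_of_surjective _ (N.equivMapOfInjective T.D.M.subtype T.D.M.subtype_injective).surjective
  haveI hRn : R.Normal := Subgroup.commutator_normal _ _
  haveI : IsCyclic R :=
    isCyclic_of_injective (Subgroup.inclusion hRN) (Subgroup.inclusion_injective hRN)
  refine T.le_z hG (g := T.x0) (fun w hw h => T.near0 hw h) hRM (fun w hw => hRn.conj_mem w hw _) ?_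
    (commutator_mem_commutator hu hv)
  intro w hw hw3
  by_cases h1 : w = 1
  · rw [h1]; exact one_mem _
  refine T.fix0 w (hRM hw) ?_
  have hwA : w ∈ T.D.A := T.D.mem_A_of_pow hw3 (hRM hw)
  -- `⟨w⟩` is the subgroup of order three of the cyclic group `R`
  have hd := T.D.delta_mem T.x0 hwA
  have hd' : T.x0 * w * T.x0⁻¹ * w⁻¹ ∈ R := mul_mem (hRn.conj_mem w hw _) (inv_mem hw)
  by_contra hne
  set d := T.x0 * w * T.x0⁻¹ * w⁻¹ with hdd
  have hd1 : d ≠ 1 := fun h => hne (mul_inv_eq_one.mp h)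
  haveI : Fintype R := Fintype.ofFinite R
  have hpow3 : d ^ 3 = 1 := pow_prime_eq_one_of_mem T.D.z_ord hd
  obtain ⟨i, hi⟩ : ∃ i : ℤ, (⟨d, hd'⟩ : R) ^ i = ⟨w, hw⟩ := by
    classical
    have hle : (Finset.univ.filter fun r : R => r ^ 3 = 1).card ≤ 3 :=
      IsCyclic.card_pow_eq_one_le (α := R) (by norm_num)
    have hsub : (zpowers (⟨d, hd'⟩ : R) : Set R).toFinset = Finset.univ.filter fun r : R => r ^ 3 = 1 := by
      refine Finset.eq_of_subset_of_card_le (fun r hr => ?_) (hle.trans ?_)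
      · rw [Set.mem_toFinset] at hr
        obtain ⟨i, rfl⟩ := Subgroup.mem_zpowers_iff.mp hr
        rw [Finset.mem_filter]
        refine ⟨Finset.mem_univ _, ?_⟩
        rw [← zpow_natCast, ← zpow_mul, mul_comm, zpow_mul, zpow_natCast,
          show (⟨d, hd'⟩ : R) ^ 3 = 1 from Subtype.ext hpow3, one_zpow]
      · rw [Set.toFinset_card, ← Nat.card_eq_fintype_card, SetLike.coe_sort_coe, Nat.card_zpowers,
          ← Subgroup.orderOf_coe]
        exact (orderOf_eq_prime hpow3 hd1).ge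
    have : (⟨w, hw⟩ : R) ∈ (zpowers (⟨d, hd'⟩ : R) : Set R).toFinset := by
      rw [hsub, Finset.mem_filter]; exact ⟨Finset.mem_univ _, Subtype.ext hw3⟩
    exact Subgroup.mem_zpowers_iff.mp (Set.mem_toFinset.mp this)
  have hwz : w ∈ zpowers T.D.z := by
    have := congrArg Subtype.val hi
    simp only [coe_zpow] at this
    rw [← this]; exact zpow_mem hd i
  exact hne (T.conj_z _ hwz)

/-- Every element is in one of the three cosets of `M`. -/
theorem coset (g : G) : g ∈ T.D.M ∨ T.x0⁻¹ * g ∈ T.D.M ∨ T.x0 * g ∈ T.D.M := by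
  haveI := T.D.M_normal
  by_cases hg : g ∈ T.D.M
  · exact Or.inl hg
  have hcard : Nat.card (G ⧸ T.D.M) = 3 := by rw [← Subgroup.index_eq_card, T.idx]
  have hgen : zpowers (T.x0 : G ⧸ T.D.M) = ⊤ :=
    zpowers_eq_top_of_prime_card hcard (fun h => T.hx0 ((QuotientGroup.eq_one_iff _).mp h))
  obtain ⟨i, hi⟩ := Subgroup.mem_zpowers_iff.mp (hgen.ge (mem_top (g : G ⧸ T.D.M)))
  have h3 : (T.x0 : G ⧸ T.D.M) ^ (3 : ℕ) = 1 := orderOf_dvd_iff_pow_eq_one.mp ((_root_.orderOf_dvd_natCard _).trans (dvd_of_eq hcard))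
  have hmod : (T.x0 : G ⧸ T.D.M) ^ i = (T.x0 : G ⧸ T.D.M) ^ (i % 3) := by
    conv_lhs => rw [← Int.mul_ediv_add_emod i 3, zpow_add, zpow_mul, zpow_ofNat, h3, one_zpow, one_mul]
  rw [hmod] at hi
  rcases (show i % 3 = 0 ∨ i % 3 = 1 ∨ i % 3 = 2 by omega) with h | h | h <;> rw [h] at hi
  · exact absurd ((QuotientGroup.eq_one_iff g).mp (by rw [← hi, zpow_zero])) hg
  · refine Or.inr (Or.inl (QuotientGroup.eq.mp ?_))
    rw [← hi, zpow_one]
  · refine Or.inr (Or.inr ((QuotientGroup.eq_one_iff _).mp ?_))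
    rw [QuotientGroup.mk_mul, ← hi, zpow_ofNat, ← pow_succ', h3]

include hG in
/-- The near property for every element outside `M`. -/
theorem near {g v : G} (hg : g ∉ T.D.M) (hv : v ∈ T.D.M) (h : g * v * g⁻¹ * v⁻¹ ∈ zpowers T.D.z) : v ∈ T.D.A := by
  haveI hMn := T.D.M_normal
  have hzM : zpowers T.D.z ≤ T.D.M := T.z_le_A.trans T.D.A_le_M
  -- conjugation by `x0 ^ ±1` also moves `v` inside `⟨z⟩`
  have key : ∀ e m : G, m ∈ T.D.M → g = e * m → e * v * e⁻¹ * v⁻¹ ∈ zpowers T.D.z := by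
    intro e m hm he
    set c := ⁅m, v⁆ with hcd
    have hc : c ∈ zpowers T.D.z := T.comm_M hG hm hv
    have heq : e * v * e⁻¹ * v⁻¹ = c⁻¹ * (g * v * g⁻¹ * v⁻¹) := by
      rw [he, show e * m * v * (e * m)⁻¹ * v⁻¹ = e * c * e⁻¹ * (e * v * e⁻¹ * v⁻¹) by
        rw [hcd, commutatorElement_def]; group, T.conj_z e hc, inv_mul_cancel_left]
    rw [heq]; exact mul_mem (inv_mem hc) h
  rcases T.coset g with h1 | h1 | h1
  · exact absurd h1 hg
  · exact T.near0 hv (key T.x0 _ h1 (by group))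
  · have h2 := key T.x0⁻¹ _ h1 (by group)
    set c := T.x0⁻¹ * v * T.x0⁻¹⁻¹ * v⁻¹ with hcd
    refine T.near0 hv ?_
    rw [show T.x0 * v * T.x0⁻¹ * v⁻¹ = (T.x0 * c * T.x0⁻¹)⁻¹ by rw [hcd]; group, T.conj_z _ h2]
    exact inv_mem h2

include hG in
/-- The fixed points in `M` of an element outside `M`. -/
theorem fix {g v : G} (hg : g ∉ T.D.M) (hv : v ∈ T.D.M) (h : g * v * g⁻¹ = v) : v ∈ zpowers T.D.z :=
  T.D.mem_zpowers_of_fixed hg (T.near hG hg hv (by rw [h, mul_inv_cancel]; exact one_mem _)) h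

include hG in
/-- A subgroup of `M` of order at least nine normalised by an element outside `M` contains `A`. -/
theorem A_le {g : G} (hg : g ∉ T.D.M) {K : Subgroup G} (hK : K ≤ T.D.M) (hgK : ∀ v ∈ K, g * v * g⁻¹ ∈ K)
    (hz : T.D.z ∈ K) (hcard : 9 ≤ Nat.card K) : T.D.A ≤ K := by
  by_cases hom : ∀ v ∈ K, v ^ 3 = 1 → v ∈ zpowers T.D.z
  · have h := card_le_of_le (T.le_z hG (fun v hv h => T.near hG hg hv h) hK hgK hom)
    rw [Nat.card_zpowers, T.D.z_ord] at h
    omega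
  push Not at hom
  obtain ⟨u, hu, hu3, huz⟩ := hom
  have huA : u ∈ T.D.A := T.D.mem_A_of_pow hu3 (hK hu)
  haveI := T.D.zpowers_normal
  have hA : zpowers T.D.z ⊔ zpowers u = T.D.A := eq_of_le_of_card_ge
    (sup_le le_sup_left (zpowers_le.mpr huA))
    (by rw [T.D.card_A, CfsgLib.Fusion.NormalRankTwo.sup_zpowers_card huz (by rw [hu3]; exact one_mem _),
      Nat.card_zpowers, T.D.z_ord, sq])
  rw [← hA]
  exact sup_le (zpowers_le.mpr hz) (zpowers_le.mpr hu)

include hG in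
/-- Counting commutators with an element outside `M`. -/
theorem card_le {g : G} (hg : g ∉ T.D.M) {N H : Subgroup G} (hN : N ≤ T.D.M)
    (h : ∀ u ∈ N, u * g * u⁻¹ * g⁻¹ ∈ H) : Nat.card N ≤ 3 * Nat.card H := by
  classical
  let f : N → H := fun u => ⟨(u : G) * g * (u : G)⁻¹ * g⁻¹, h u u.2⟩
  haveI : Fintype N := Fintype.ofFinite _
  haveI : Fintype H := Fintype.ofFinite _
  have hfib : ∀ b ∈ (Finset.univ : Finset H), (Finset.univ.filter fun u => f u = b).card ≤ 3 := by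
    intro b _
    by_cases hne : (Finset.univ.filter fun u => f u = b).Nonempty
    · obtain ⟨u0, hu0⟩ := hne
      rw [Finset.mem_filter] at hu0
      haveI : Fintype (zpowers T.D.z) := Fintype.ofFinite _
      have hz : ∀ u : N, f u = b → (u0 : G)⁻¹ * u ∈ zpowers T.D.z := fun u hu => by
        refine T.fix hG hg (mul_mem (inv_mem (hN u0.2)) (hN u.2)) ?_
        have e : (u : G) * g * (u : G)⁻¹ = (u0 : G) * g * (u0 : G)⁻¹ :=
          mul_right_cancel (congrArg Subtype.val (hu.trans hu0.2.symm))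
        calc g * ((u0 : G)⁻¹ * u) * g⁻¹
            = (u0 : G)⁻¹ * ((u0 : G) * g * (u0 : G)⁻¹) * u * g⁻¹ := by group
          _ = (u0 : G)⁻¹ * u := by rw [← e]; group
      refine (Finset.card_le_card_of_injOn (t := (zpowers T.D.z : Set G).toFinset)
        (fun u : N => (u0 : G)⁻¹ * u) (fun u hu => ?_) fun u _ u' _ e => ?_).trans ?_
      · simp only [Finset.coe_filter, Set.mem_setOf_eq] at hu
        simp only [Set.coe_toFinset, SetLike.mem_coe]
        exact hz u hu.2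
      · exact Subtype.ext (mul_left_cancel e)
      · rw [Set.toFinset_card, ← Nat.card_eq_fintype_card, SetLike.coe_sort_coe, Nat.card_zpowers, T.D.z_ord]
    · rw [Finset.not_nonempty_iff_eq_empty.mp hne, Finset.card_empty]; norm_num
  have h2 := Finset.card_le_mul_card_image_of_maps_to (f := f) (s := (Finset.univ : Finset N))
    (t := (Finset.univ : Finset H)) (fun u _ => Finset.mem_univ _) 3 hfib
  rwa [Finset.card_univ, Finset.card_univ, ← Nat.card_eq_fintype_card, ← Nat.card_eq_fintype_card] at h2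

/-- A subgroup not inside `M` meets it with index three. -/
theorem card_inf {H : Subgroup G} (hH : ¬ H ≤ T.D.M) : 3 * Nat.card (H ⊓ T.D.M : Subgroup G) = Nat.card H := by
  haveI := T.D.M_normal
  have h1 : T.D.M.relIndex H ∣ T.D.M.index := Subgroup.relIndex_dvd_index_of_normal _ _
  rw [T.idx] at h1
  have h2 : T.D.M.relIndex H = 3 :=
    (Nat.prime_three.eq_one_or_self_of_dvd _ h1).resolve_left fun h => hH (relIndex_eq_one.mp h)
  have e : (T.D.M.subgroupOf H).map H.subtype = H ⊓ T.D.M := by rw [subgroupOf_map_subtype, inf_comm]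
  rw [← Subgroup.card_mul_index (T.D.M.subgroupOf H), ← e,
    card_map_of_injective (f := H.subtype) H.subtype_injective, mul_comm]
  exact congrArg _ h2.symm

include hG in
/-- The normaliser of a subgroup not inside `M` has index at most three over it. -/
theorem card_normalizer {H : Subgroup G} (hH : ¬ H ≤ T.D.M) :
    Nat.card (normalizer (H : Set G)) ≤ 3 * Nat.card H := by
  haveI hMn := T.D.M_normal
  obtain ⟨g, hgH, hg⟩ := SetLike.not_le_iff_exists.mp hH
  have h1 := T.card_inf (H := normalizer (H : Set G)) fun h => hH (le_normalizer.trans h)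
  have h2 := T.card_le hG hg (N := normalizer (H : Set G) ⊓ T.D.M) (H := H ⊓ T.D.M) inf_le_right fun u hu => by
    refine ⟨H.mul_mem ((Subgroup.mem_normalizer_iff.mp hu.1 g).mp hgH) (H.inv_mem hgH), ?_⟩
    rw [show u * g * u⁻¹ * g⁻¹ = u * (g * u⁻¹ * g⁻¹) by group]
    exact T.D.M.mul_mem hu.2 (hMn.conj_mem _ (T.D.M.inv_mem hu.2) g)
  have h3 := T.card_inf hH
  omega

include hG in
/-- The elementary subgroup lies in every subgroup of order at least `27` outside `M` containing `z`. -/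
theorem A_le_of_card {H : Subgroup G} (hH : ¬ H ≤ T.D.M) (hz : T.D.z ∈ H) (h27 : 27 ≤ Nat.card H) : T.D.A ≤ H := by
  haveI hMn := T.D.M_normal
  obtain ⟨g, hgH, hg⟩ := SetLike.not_le_iff_exists.mp hH
  refine (T.A_le hG hg (K := H ⊓ T.D.M) inf_le_right (fun v hv => ⟨?_, hMn.conj_mem v hv.2 g⟩)
    ⟨hz, T.D.z_mem_M⟩ ?_).trans inf_le_left
  · exact H.mul_mem (H.mul_mem hgH hv.1) (H.inv_mem hgH)
  · have := T.card_inf hH; omega

include hG in
/-- In a subgroup of order at least `81` outside `M` the elementary subgroup consists of the second centre. -/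
theorem mem_A_iff {H : Subgroup G} (hH : ¬ H ≤ T.D.M) (hz : T.D.z ∈ H) (h81 : 81 ≤ Nat.card H) {v : G} (hv : v ∈ H) :
    v ∈ T.D.A ↔ ∀ u ∈ H, u * v * u⁻¹ * v⁻¹ ∈ zpowers T.D.z := by
  refine ⟨fun hvA u _ => T.D.delta_mem u hvA, fun h => ?_⟩
  obtain ⟨g, hgH, hg⟩ := SetLike.not_le_iff_exists.mp hH
  by_cases hvM : v ∈ T.D.M
  · exact T.near hG hg hvM (h g hgH)
  exfalso
  have hle : H ⊓ T.D.M ≤ T.D.A := fun u hu => T.near hG hvM hu.2 (by
    rw [show v * u * v⁻¹ * u⁻¹ = (u * v * u⁻¹ * v⁻¹)⁻¹ by group]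
    exact inv_mem (h u hu.1))
  have h1 := card_le_of_le hle
  have h2 := T.card_inf hH
  rw [T.D.card_A] at h1
  omega

include hG in
/-- `M` cuts such a subgroup in the centraliser of its second centre. -/
theorem mem_M_iff {H : Subgroup G} (hH : ¬ H ≤ T.D.M) (hz : T.D.z ∈ H) (h81 : 81 ≤ Nat.card H) {u : G}
    (hu : u ∈ H) : u ∈ T.D.M ↔
      ∀ v ∈ H, (∀ w ∈ H, w * v * w⁻¹ * v⁻¹ ∈ zpowers T.D.z) → u * v = v * u := by
  refine ⟨fun hM v hv h => ((T.D.commute_of_mem_A ((T.mem_A_iff hG hH hz h81 hv).mpr h) hM).symm).eq, fun h => ?_⟩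
  have haH : T.D.a ∈ H := T.A_le_of_card hG hH hz (by omega) T.D.a_mem_A
  exact T.D.mem_M.mpr (h T.D.a haH fun w hw => (T.mem_A_iff hG hH hz h81 haH).mp T.D.a_mem_A w hw)

end Thin

end CfsgLib.LocalEvenB.IsolatedSylow
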