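import Mathlib
import Cfsg.Agent.Lib.LocalEvenB.IsolatedSylow.Thin
import Cfsg.Agent.Lib.LocalEvenB.OrderPCubed
import Cfsg.Agent.Lib.FusionSystem.RankTwoResistant

/-!
Blackburn's classification with the datum of the thin case kept.
-/

set_option autoImplicit false
set_option linter.style.haveILetI false
set_option linter.unusedSectionVars false

open Subgroup
open scoped commutatorElement

namespace CfsgLib.LocalEvenB.IsolatedSylow

open CfsgLib.PGroup CfsgLib.PGroup.RankTwoOdd CfsgLib.PGroup.RankTwoOdd.Data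

variable {G : Type*} [Group G] [Finite G] {p : ℕ} [hp : Fact p.Prime]

/-- Blackburn's theorem, with the small centraliser kept in the exceptional case. -/
theorem classification_datum (hodd : p ≠ 2) {n : ℕ} (hn : Nat.card G = p ^ n)
    (hrk : ∀ E : Subgroup G, Cfsg.IsElementaryAbelian p E → Nat.card E ≤ p ^ 2) :
    Cfsg.IsMetacyclic G ∨ FamilyOne p n G ∨ FamilyTwo p n G ∨
      (p = 3 ∧ ∃ (D : Data p G) (x : G), D.M.index = p ∧ x ∉ D.M ∧
        ∀ v ∈ D.M, x * v * x⁻¹ = v → v ∈ zpowers D.z) := by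
  have hG : IsPGroup p G := IsPGroup.of_card hn
  by_cases hcyc : IsCyclic G
  · exact Or.inl ⟨⊥, inferInstance, inferInstance,
      isCyclic_of_surjective (QuotientGroup.mk' ⊥) (QuotientGroup.mk'_surjective ⊥)⟩
  obtain ⟨D⟩ := nonempty_data hodd hG hcyc hrk
  set L := closure {u : G | ∃ v ∈ D.M, v ^ p = u}
  have hL : Nat.card D.M ≤ Nat.card L * p ^ 2 := by
    have := PCentralPow.card_le_powers hodd hG D.central_in_M (A := D.A) fun u hu h => D.mem_A_of_pow h hu
    rwa [D.card_A] at this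
  set P := closure {u : G | ∃ v : G, v ^ p = u}
  have hLP : L ≤ P := closure_mono fun u ⟨v, _, h⟩ => ⟨v, h⟩
  have hPmeta : Nat.card G ≤ Nat.card P * p ^ 2 → Cfsg.IsMetacyclic G := fun h => by
    refine PowerIndex.isMetacyclic hodd hG ?_
    have h2 := Subgroup.card_mul_index P
    exact Nat.le_of_mul_le_mul_left (h2.le.trans h) Nat.card_pos
  rcases D.M_index with htop | hidx
  · refine Or.inl (hPmeta ?_)
    rw [htop, card_top] at hL
    exact hL.trans (Nat.mul_le_mul_right _ (card_le_of_le hLP))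
  haveI := D.M_normal
  have hMc : Nat.card G = Nat.card D.M * p := (Subgroup.card_mul_index D.M).symm.trans (by rw [hidx])
  have h3 : 3 ≤ n := by
    have h1 := Nat.mul_le_mul_right p (card_le_of_le D.A_le_M)
    rw [D.card_A, ← hMc, hn, ← pow_succ] at h1
    exact (Nat.pow_le_pow_iff_right hp.out.one_lt).mp h1
  by_cases hex : ∃ x : G, x ∉ D.M ∧ x ^ p = 1
  · -- an element of order `p` outside `M`
    obtain ⟨x, hx, hxp⟩ := hex
    rcases D.dichotomy hodd hG with ⟨d, hd, hdA, hdz⟩ | ⟨w, hw, hrep⟩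
    · obtain ⟨hp3, hfix⟩ := D.alpha hodd hG hx hd hdA hdz (by rw [hxp]; exact Commute.one_left d)
      exact Or.inr (Or.inr (Or.inr ⟨hp3, D, x, hidx, hx, hfix⟩))
    by_cases hwA : w ∈ D.A
    · refine Or.inr (Or.inl (D.familyOne_of_commute (w := D.z) (m := 1) ?_ D.z_mem_M hn hidx
        (by rw [pow_one]; exact D.z_ord) le_rfl (by simp) hx hxp ?_))
      · intro u hu
        obtain ⟨i, α, hα, rfl⟩ := hrep u hu
        exact ⟨0, w ^ i * α, mul_mem (pow_mem hwA i) hα, by rw [pow_zero, one_mul]⟩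
      · exact Subgroup.mem_center_iff.mp D.z_center x
    obtain ⟨m, hm, ho, hω, hω1⟩ := D.exists_omega hrep hw hG hx hwA
    set D' := D.changeZ hω hω1 with hD'
    have hA' : D'.A = D.A := D.changeZ_A hω hω1
    have hrep' : ∀ u ∈ D'.M, ∃ i : ℕ, ∃ α ∈ D'.A, u = w ^ i * α := by rw [hA']; exact hrep
    obtain ⟨c, hc, hxw⟩ := D'.exists_step hrep' hw hodd hG x (by rwa [hA']) ho hm rfl
    by_cases hcz : c ∈ zpowers D'.z
    · obtain ⟨b, hb, hb1⟩ := D'.conj_a (x := x) hx
      have hcb : c⁻¹ ∈ zpowers (D'.z ^ b) := by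
        rw [zpowers_eq_of_mem D'.z_ord (pow_mem (mem_zpowers _) b) hb1]; exact inv_mem hcz
      obtain ⟨l, hl⟩ := exists_pow_eq_of_mem hcb
      have haw : Commute w D'.a := D'.mem_M.mp hw
      have hwpow : ∀ j, 1 ≤ j → (w * D'.a ^ l) ^ p ^ j = w ^ p ^ j := fun j hj => by
        obtain ⟨t, ht⟩ : p ∣ p ^ j := dvd_pow_self p (by omega)
        rw [(haw.pow_right l).mul_pow, ← pow_mul D'.a, mul_comm, ht, mul_assoc, pow_mul D'.a,
          D'.a_pow, one_pow, mul_one]
      have hz' : (w * D'.a ^ l) ^ p ^ (m - 1) = D'.z := hwpow _ (by omega)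
      refine Or.inr (Or.inl (D'.familyOne_of_commute (w := w * D'.a ^ l) (m := m) ?_
        (mul_mem hw (pow_mem D'.a_mem_M l)) hn hidx ?_ (by omega) hz' hx hxp ?_))
      · intro u hu
        obtain ⟨i, α, hα, rfl⟩ := hrep' u hu
        refine ⟨i, ((D'.a ^ l) ^ i)⁻¹ * α, mul_mem (inv_mem (pow_mem (pow_mem D'.a_mem_A l) i)) hα, ?_⟩
        rw [(haw.pow_right l).mul_pow]; group
      · obtain ⟨j, rfl⟩ : ∃ j, m = j + 1 := ⟨m - 1, by omega⟩
        refine orderOf_eq_prime_pow ?_ ?_
        · rw [show j = j + 1 - 1 from rfl, hz']; exact D'.z_ne_one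
        · rw [hwpow _ (by omega), ← ho, pow_orderOf_eq_one]
      · have hz'b : Commute (D'.z ^ b) D'.a := (Subgroup.mem_center_iff.mp (pow_mem D'.z_center b) _).symm
        show x * (w * D'.a ^ l) = w * D'.a ^ l * x
        rw [← mul_inv_eq_iff_eq_mul]
        calc x * (w * D'.a ^ l) * x⁻¹ = (x * w * x⁻¹) * (x * D'.a * x⁻¹) ^ l := by rw [conj_pow]; group
          _ = c * w * (c⁻¹ * D'.a ^ l) := by rw [hxw, hb, hz'b.mul_pow, hl]
          _ = w * D'.a ^ l := by
              have h1 : Commute w c⁻¹ := (D'.commute_of_mem_A (inv_mem hc) hw).symm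
              rw [mul_assoc c, ← mul_assoc w, h1.eq]; group
    · exact Or.inr (Or.inr (Or.inl (D'.familyTwo_of_step hrep' hw hn hidx ho hm rfl hx hxp hc hcz hxw)))
  -- no element of order `p` outside `M`
  push Not at hex
  obtain ⟨x, hx⟩ := SetLike.exists_not_mem_of_ne_top D.M
    (fun h => hp.out.ne_one (by rw [← hidx, h, index_top])) rfl
  by_cases hxL : x ^ p ∈ L
  swap
  · refine Or.inl (hPmeta ?_)
    have hlt : L < P := lt_of_le_of_ne hLP fun h => hxL (h ▸ subset_closure ⟨x, rfl⟩)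
    have h1 := CfsgLib.Fusion.MaxClass.card_mul_le_of_lt hG hlt
    rw [hMc]
    exact (Nat.mul_le_mul_right p hL).trans
      (le_of_eq_of_le (by ring) (Nat.mul_le_mul_right (p ^ 2) h1))
  rcases D.dichotomy hodd hG with ⟨d, hd, hdA, hdz⟩ | ⟨w, hw, hrep⟩
  · have hLd : L ≤ centralizer ({d} : Set G) := (closure_le _).mpr (by
      rintro _ ⟨v, hv, rfl⟩
      exact mem_centralizer_singleton_iff.mpr (PCentralPow.commute_pow hodd hG D.central_in_M hv hd
        (fun u hu => D.commute_of_mem_A hdA hu)).eq)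
    obtain ⟨hp3, hfix⟩ := D.alpha hodd hG hx hd hdA hdz (mem_centralizer_singleton_iff.mp (hLd hxL))
    exact Or.inr (Or.inr (Or.inr ⟨hp3, D, x, hidx, hx, hfix⟩))
  have hLw : L ≤ zpowers (w ^ p) := (closure_le _).mpr (by
    rintro _ ⟨v, hv, rfl⟩
    obtain ⟨i, α, hα, rfl⟩ := hrep v hv
    rw [(D.commute_of_mem_A hα (pow_mem hw i)).symm.mul_pow, D.pow_of_mem_A hα, mul_one, ← pow_mul,
      mul_comm, pow_mul]
    exact pow_mem (mem_zpowers _) i)
  obtain ⟨s, hs⟩ := exists_pow_eq_of_mem (hLw hxL)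
  have hwA : w ∉ D.A := fun h => hex x hx (by rw [← hs, D.pow_of_mem_A h, one_pow])
  obtain ⟨m, hm, ho, hω, hω1⟩ := D.exists_omega hrep hw hG hx hwA
  set D' := D.changeZ hω hω1 with hD'
  have hA' : D'.A = D.A := D.changeZ_A hω hω1
  have hrep' : ∀ u ∈ D'.M, ∃ i : ℕ, ∃ α ∈ D'.A, u = w ^ i * α := by rw [hA']; exact hrep
  obtain ⟨c, hc, hxw⟩ := D'.exists_step hrep' hw hodd hG x (by rwa [hA']) ho hm rfl
  obtain ⟨hp3, hfix⟩ := D'.beta_two hrep' hw hodd ho hm rfl (x := x) hx hex hc hxw hs.symm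
  exact Or.inr (Or.inr (Or.inr ⟨hp3, D', x, hidx, hx, hfix⟩))


/-- A group of order `81`, rank two and class above two is thin. -/
theorem thin_of_card_81 {G : Type*} [Group G] [Finite G] (hn : Nat.card G = 3 ^ 4)
    (hrk : ∀ E : Subgroup G, Cfsg.IsElementaryAbelian 3 E → Nat.card E ≤ 3 ^ 2)
    (hcl : ¬ commutator G ≤ center G) : Nonempty (Thin G) := by
  have hG : IsPGroup 3 G := IsPGroup.of_card hn
  have hcyc : ¬ IsCyclic G := fun h => hcl (by
    letI : CommGroup G := IsCyclic.commGroup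
    intro u _
    exact Subgroup.mem_center_iff.mpr fun v => mul_comm v u)
  obtain ⟨D⟩ := nonempty_data (by norm_num : (3 : ℕ) ≠ 2) hG hcyc hrk
  haveI := D.A_normal
  haveI := D.M_normal
  -- quotients of order at most nine are abelian
  have hab : ∀ (N : Subgroup G) [N.Normal], 9 ≤ Nat.card N → commutator G ≤ N := by
    intro N _ hN
    have h1 := Subgroup.card_mul_index N
    have hq : IsPGroup 3 (G ⧸ N) := hG.to_quotient N
    obtain ⟨j, hj⟩ := IsPGroup.iff_card.mp hq
    rw [Subgroup.index_eq_card, hj, hn] at h1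
    have hj2 : j ≤ 2 := by
      by_contra h
      have := Nat.pow_le_pow_right (show 3 > 0 by norm_num) (show 3 ≤ j by omega)
      nlinarith
    have hcomm : ∀ u v : G ⧸ N, u * v = v * u := by
      rcases (show j = 0 ∨ j = 1 ∨ j = 2 by omega) with rfl | rfl | rfl
      · haveI := (Nat.card_eq_one_iff_unique.mp (by simpa using hj)).1
        exact fun u v => Subsingleton.elim _ _
      · haveI : IsCyclic (G ⧸ N) := isCyclic_of_prime_card (p := 3) (by simpa using hj)
        letI : CommGroup (G ⧸ N) := IsCyclic.commGroup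
        exact fun u v => mul_comm u v
      · exact (IsPGroup.isMulCommutative_of_card_eq_prime_sq hj).1.1
    rw [_root_.commutator_def, Subgroup.commutator_le]
    intro u _ v _
    exact (QuotientGroup.eq_one_iff _).mp ((map_commutatorElement (QuotientGroup.mk' N) u v).trans
      (commutatorElement_eq_one_iff_mul_comm.mpr (hcomm _ _)))
  have hA9 : 9 ≤ Nat.card D.A := by rw [D.card_A]; norm_num
  rcases D.M_index with htop | hidx
  · refine absurd ((hab D.A hA9).trans fun u hu => Subgroup.mem_center_iff.mpr fun v => ?_) hcl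
    exact (D.commute_of_mem_A hu (htop ▸ mem_top v)).symm.eq
  obtain ⟨x, hx⟩ := SetLike.exists_not_mem_of_ne_top D.M (fun h => by rw [h, index_top] at hidx; omega) rfl
  have hMab : ∀ u ∈ D.M, ∀ v ∈ D.M, Commute u v := by
    intro u hu v hv
    let B : Subgroup D.M := D.A.subgroupOf D.M
    have hBc : B ≤ center D.M := fun w hw => Subgroup.mem_center_iff.mpr fun w' =>
      Subtype.ext (D.commute_of_mem_A hw w'.2).symm.eq
    haveI : B.Normal := ⟨fun w hw w' => D.A_normal.conj_mem _ hw _⟩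
    have hBcard : Nat.card B = 9 := by
      rw [Nat.card_congr (subgroupOfEquivOfLe D.A_le_M).toEquiv, D.card_A]; norm_num
    have hM : Nat.card D.M * 3 = 81 := (congrArg (Nat.card D.M * ·) hidx.symm).trans
      ((Subgroup.card_mul_index D.M).trans (by rw [hn]; norm_num))
    have hq : Nat.card (D.M ⧸ B) = 3 := by
      have := Subgroup.card_mul_index B
      rw [Subgroup.index_eq_card, hBcard] at this
      omega
    haveI : IsCyclic (D.M ⧸ B) := isCyclic_of_prime_card hq
    have h := (MonoidHom.isMulCommutative_of_isCyclic_of_ker_le_center (QuotientGroup.mk' B)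
      (by rw [QuotientGroup.ker_mk']; exact hBc)).1.1 ⟨u, hu⟩ ⟨v, hv⟩
    exact congrArg Subtype.val h
  refine ⟨⟨D, x, hidx, hx, fun v hv hfix => ?_⟩⟩
  have hvC : v ∈ center G := by
    refine Subgroup.mem_center_iff.mpr fun g => ?_
    have hle : D.M ⊔ zpowers x ≤ centralizer {v} := sup_le
      (fun u hu => mem_centralizer_singleton_iff.mpr (hMab u hu v hv).eq)
      (zpowers_le.mpr (mem_centralizer_singleton_iff.mpr (mul_inv_eq_iff_eq_mul.mp hfix)))
    have hco : IsCoatom D.M := by
      refine ⟨fun h => hx (h ▸ mem_top _), fun H hlt => ?_⟩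
      have h1 := Subgroup.relIndex_mul_index hlt.le
      rw [hidx] at h1
      have h2 : H.index ∣ 3 := ⟨_, by rw [← h1, mul_comm]⟩
      rcases Nat.prime_three.eq_one_or_self_of_dvd _ h2 with h | h
      · exact Subgroup.index_eq_one.mp h
      · rw [h] at h1
        have h3 : D.M.relIndex H = 1 := by omega
        exact absurd (Subgroup.relIndex_eq_one.mp h3) hlt.not_ge
    have htop := hco.2 _ (lt_of_le_of_ne le_sup_left fun e => hx (e ▸ mem_sup_right (mem_zpowers x)))
    exact mem_centralizer_singleton_iff.mp (hle (htop.ge (mem_top g)))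
  by_contra hvz
  haveI : (center G).Normal := inferInstance
  refine hcl (hab (center G) ?_)
  have hlt : zpowers D.z < center G :=
    lt_of_le_of_ne (zpowers_le.mpr D.z_center) fun e => hvz (e.ge hvC)
  have := CfsgLib.Fusion.MaxClass.card_mul_le_of_lt hG hlt
  rwa [Nat.card_zpowers, D.z_ord] at this

/-- The second family at order `81` has class above two. -/
theorem familyTwo_not_class_two {G : Type*} [Group G] [Finite G] (hn : Nat.card G = 3 ^ 4)
    (hrk : ∀ E : Subgroup G, Cfsg.IsElementaryAbelian 3 E → Nat.card E ≤ 3 ^ 2) (h : FamilyTwo 3 4 G) :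
    ¬ commutator G ≤ center G := by
  obtain ⟨-, s, x, y, z, hs, hgen, hx, hy, hz, hyz, hxy, hxz⟩ := h
  intro hcl
  have hy' : y ∈ center G := by
    refine hcl ?_
    have e : y = ⁅x⁻¹, z⁆ := by
      rw [commutatorElement_def, inv_inv, hxz]; group
    rw [e, _root_.commutator_def]
    exact commutator_mem_commutator (mem_top _) (mem_top _)
  have hs3 : ¬ 3 ∣ s := by
    intro h
    rcases hs with rfl | hs
    · exact absurd h (by norm_num)
    · exact hs (by rw [(ZMod.natCast_eq_zero_iff _ _).mpr h]; exact IsSquare.zero)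
  have hz3 : z ^ 3 = 1 := by
    rw [Subgroup.mem_center_iff.mp hy' x⁻¹, mul_assoc, inv_mul_cancel, mul_one] at hxy
    have h1 := (mul_eq_left.mp hxy.symm)
    rw [show s * 3 ^ (4 - 3) = 3 * s by norm_num; ring, pow_mul] at h1
    by_contra hne
    exact hs3 (dvd_of_pow_eq_one (p := 3) (by rw [← pow_mul]; exact hz) hne h1)
  have hexp : ∀ g : G, g ^ 3 = 1 := by
    intro g
    have : g ∈ closure ({x, y, z} : Set G) := hgen ▸ mem_top g
    induction this using closure_induction with
    | mem u hu => rcases hu with rfl | rfl | rfl <;> assumption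
    | one => exact one_pow 3
    | mul u v _ _ hu hv =>
      have hc : ⁅v, u⁆ ∈ center G := hcl (by
        rw [_root_.commutator_def]; exact commutator_mem_commutator (mem_top _) (mem_top _))
      have hcom : ∀ (w a : G), Commute ⁅a, u⁆ w := fun w a => (Subgroup.mem_center_iff.mp (hcl (by
        rw [_root_.commutator_def]; exact commutator_mem_commutator (mem_top a) (mem_top u))) w).symm
      let f : G →* G := MonoidHom.mk' (fun a => ⁅a, u⁆) fun a b => by
        show ⁅a * b, u⁆ = ⁅a, u⁆ * ⁅b, u⁆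
        rw [show ⁅a * b, u⁆ = a * ⁅b, u⁆ * a⁻¹ * ⁅a, u⁆ by simp [commutatorElement_def, mul_assoc],
          ← (hcom a b).eq, mul_inv_cancel_right, (hcom ⁅a, u⁆ b).eq]
      have hf : ⁅v, u⁆ ^ 3 = ⁅v ^ 3, u⁆ := (map_pow f v 3).symm
      rw [OrderPCubed.mul_pow_of_central u v hc 3, hu, hv, show Nat.choose 3 2 = 3 from rfl, hf,
        hv, commutatorElement_one_left, one_mul, one_mul]
    | inv u _ hu => rw [inv_pow, hu, inv_one]
  have := CfsgLib.Fsys.RankTwo.card_le_cube (IsPGroup.of_card hn) (by norm_num : (3 : ℕ) ≠ 2) hexp hrk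
  rw [hn] at this
  norm_num at this

end CfsgLib.LocalEvenB.IsolatedSylow
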