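import Mathlib
import Cfsg.Agent.Lib.PGroup.RankTwoOddMain
import Cfsg.Agent.Lib.PGroup.PCentralPow

/-!
In the two exceptional families of rank two a power map is a homomorphism onto the relevant central subgroup.
-/

set_option autoImplicit false
set_option linter.style.haveILetI false

open Subgroup
open scoped commutatorElement

namespace CfsgLib.LocalEvenB.IsolatedSylow

open CfsgLib.PGroup.RankTwoOdd

variable {G : Type*} [Group G] [Finite G] {p : ℕ} [hp : Fact p.Prime]

theorem zpow_pow_eq_one {u : G} {m : ℕ} (hu : u ^ m = 1) (i : ℤ) : (u ^ i) ^ m = 1 := by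
  rw [← zpow_natCast, ← zpow_mul, mul_comm, zpow_mul, zpow_natCast, hu, one_zpow]

theorem commutator_le_of_gen {N : Subgroup G} [N.Normal] {s : Set G} (hs : closure s = ⊤)
    (h : ∀ u ∈ s, ∀ v ∈ s, ⁅u, v⁆ ∈ N) : commutator G ≤ N := by
  have h1 : ∀ u ∈ s, ∀ g : G, ⁅u, g⁆ ∈ N := by
    intro u hu g
    have : g ∈ closure s := hs ▸ mem_top g
    induction this using closure_induction with
    | mem v hv => exact h u hu v hv
    | one => rw [commutatorElement_one_right]; exact one_mem _
    | mul v w _ _ hv hw =>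
      rw [show ⁅u, v * w⁆ = ⁅u, v⁆ * (v * ⁅u, w⁆ * v⁻¹) by simp [commutatorElement_def, mul_assoc]]
      exact mul_mem hv (‹N.Normal›.conj_mem _ hw v)
    | inv v _ hv =>
      rw [show ⁅u, v⁻¹⁆ = v⁻¹ * ⁅u, v⁆⁻¹ * v⁻¹⁻¹ by simp [commutatorElement_def, mul_assoc]]
      exact ‹N.Normal›.conj_mem _ (inv_mem hv) _
  rw [commutator_def, commutator_le]
  intro g hg g' _
  have this : g ∈ closure s := hs ▸ mem_top g
  clear hg
  induction this using closure_induction with
  | mem v hv => exact h1 v hv g'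
  | one => rw [commutatorElement_one_left]; exact one_mem _
  | mul v w _ _ hv hw =>
    rw [show ⁅v * w, g'⁆ = v * ⁅w, g'⁆ * v⁻¹ * ⁅v, g'⁆ by simp [commutatorElement_def, mul_assoc]]
    exact mul_mem (‹N.Normal›.conj_mem _ hw v) hv
  | inv v _ hv =>
    rw [show ⁅v⁻¹, g'⁆ = v⁻¹ * ⁅v, g'⁆⁻¹ * v⁻¹⁻¹ by simp [commutatorElement_def, mul_assoc]]
    exact ‹N.Normal›.conj_mem _ (inv_mem hv) _

/-- The power map in the exceptional families. -/
theorem power_hom_aux (hodd : p ≠ 2) {n : ℕ} (hn : Nat.card G = p ^ n) (h4 : 4 ≤ n) (x y z : G) (e s : ℕ)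
    (hs : ¬ p ∣ s) (hgen : closure ({x, y, z} : Set G) = ⊤) (hx : x ^ p = 1) (hy : y ^ p = 1)
    (hz : z ^ p ^ (n - 2) = 1) (hyz : y * z = z * y)
    (hxy : x⁻¹ * y * x = y * z ^ (s * p ^ (n - 3))) (hxz : x⁻¹ * z * x = y ^ e * z)
    (hflag : 3 < p ∨ 5 ≤ n ∨ e = 0) :
    ∃ (q : ℕ) (c : G), (∀ u v : G, (u * v) ^ q = u ^ q * v ^ q) ∧ (∀ u : G, u ^ q ∈ zpowers c) ∧
      orderOf c = p ∧ (∀ w ∈ commutator G, w ∈ center G → w ∈ zpowers c) ∧ ∃ u : G, u ^ q ≠ 1 := by
  set c := z ^ p ^ (n - 3) with hc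
  have hp1 := hp.out.one_lt
  have hpow : p ^ (n - 2) = p ^ (n - 3) * p := by rw [← pow_succ]; congr 1; omega
  have hcp : c ^ p = 1 := by rw [hc, ← pow_mul, ← hpow, hz]
  have hyc : Commute y c := (show Commute y z from hyz).pow_right _
  have hxy' : x⁻¹ * y * x = y * c ^ s := by rw [hxy, hc, ← pow_mul, mul_comm s]
  have hye : Commute (y ^ e) z := (show Commute y z from hyz).pow_left e
  have hxc : x⁻¹ * c * x = c := by
    have h : (x⁻¹ * z * x) ^ p ^ (n - 3) = x⁻¹ * z ^ p ^ (n - 3) * x := by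
      simpa using map_pow (MulAut.conj x⁻¹) z (p ^ (n - 3)) |>.symm
    obtain ⟨t, ht⟩ : p ∣ p ^ (n - 3) := dvd_pow_self p (by omega)
    rw [hc, ← h, hxz, hye.mul_pow, ← pow_mul, ht, show e * (p * t) = p * (e * t) by ring, pow_mul, hy, one_pow,
      one_mul]
  have hxc' : Commute x c := by
    show x * c = c * x
    conv_lhs => rw [← hxc]
    group
  have hzc : Commute z c := (Commute.refl z).pow_right _
  have hcC : c ∈ center G := by
    refine Subgroup.mem_center_iff.mpr fun g => ?_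
    have hle : closure ({x, y, z} : Set G) ≤ centralizer {c} := by
      rw [closure_le]
      rintro u (rfl | rfl | rfl) <;> rw [SetLike.mem_coe, mem_centralizer_singleton_iff]
      · exact hxc'.eq
      · exact hyc.eq
      · exact hzc.eq
    exact mem_centralizer_singleton_iff.mp (hle (hgen ▸ mem_top g))
  haveI hcN : (zpowers c).Normal := ⟨fun u hu g => by
    obtain ⟨i, rfl⟩ := hu
    show g * c ^ i * g⁻¹ ∈ _
    rw [Subgroup.mem_center_iff.mp (zpow_mem hcC i) g, mul_inv_cancel_right]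
    exact ⟨i, rfl⟩⟩
  -- the abelian maximal subgroup and its omega
  set B : Subgroup G := closure {y, z} with hB
  set K : Subgroup G := closure {y, c} with hK
  have hBab : ∀ u ∈ B, ∀ v ∈ B, Commute u v := by
    have h1 : B ≤ centralizer {y} ⊓ centralizer {z} := by
      rw [hB, closure_le]
      rintro u (rfl | rfl) <;>
        refine ⟨mem_centralizer_singleton_iff.mpr ?_, mem_centralizer_singleton_iff.mpr ?_⟩ <;>
        first | rfl | exact hyz | exact hyz.symm
    intro u hu v hv
    have h2 : B ≤ centralizer {u} := by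
      rw [hB, closure_le]
      rintro w (rfl | rfl) <;> rw [SetLike.mem_coe, mem_centralizer_singleton_iff]
      · exact (mem_centralizer_singleton_iff.mp (h1 hu).1).symm
      · exact (mem_centralizer_singleton_iff.mp (h1 hu).2).symm
    exact (mem_centralizer_singleton_iff.mp (h2 hv)).symm
  have hyB : y ∈ B := subset_closure (Or.inl rfl)
  have hzB : z ∈ B := subset_closure (Or.inr rfl)
  have hKB : K ≤ B := by
    rw [hK, closure_le]
    rintro u (rfl | rfl)
    · exact hyB
    · exact pow_mem hzB _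
  have hKp : ∀ u ∈ K, u ^ p = 1 := fun u hu => by
    induction hu using closure_induction with
    | mem v hv => rcases hv with rfl | rfl <;> assumption
    | one => exact one_pow p
    | mul v w hv hw h h' => rw [(hBab v (hKB hv) w (hKB hw)).mul_pow, h, h', one_mul]
    | inv v _ h => rw [inv_pow, h, inv_one]
  have hnorm : ∀ (T : Subgroup G) (a b : G), T = closure {a, b} → x * a * x⁻¹ ∈ T → x * b * x⁻¹ ∈ T →
      y * a * y⁻¹ ∈ T → y * b * y⁻¹ ∈ T → z * a * z⁻¹ ∈ T → z * b * z⁻¹ ∈ T → T.Normal := by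
    intro T a b hT h1 h2 h3 h4 h5 h6
    have hle : closure ({x, y, z} : Set G) ≤ normalizer (T : Set G) := by
      rw [closure_le]
      intro g hg
      have hg' : g * a * g⁻¹ ∈ T ∧ g * b * g⁻¹ ∈ T := by
        rcases hg with rfl | rfl | rfl
        · exact ⟨h1, h2⟩
        · exact ⟨h3, h4⟩
        · exact ⟨h5, h6⟩
      have hmap : T.map (MulAut.conj g).toMonoidHom ≤ T := by
        rw [hT, MonoidHom.map_closure, closure_le]
        rintro _ ⟨u, rfl | rfl, rfl⟩
        · simpa [← hT] using hg'.1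
        · simpa [← hT] using hg'.2
      rw [SetLike.mem_coe, mem_normalizer_iff]
      intro u
      have e : T.map (MulAut.conj g).toMonoidHom = T := eq_of_le_of_card_ge hmap
        (card_map_of_injective (f := (MulAut.conj g).toMonoidHom) (MulAut.conj g).injective).ge
      constructor
      · exact fun hu => hmap ⟨u, hu, rfl⟩
      · intro hu
        rw [← e] at hu
        obtain ⟨v, hv, hvu⟩ := hu
        exact (MulAut.conj g).injective hvu ▸ hv
    exact normalizer_eq_top_iff.mp (top_unique (hgen ▸ hle))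
  have hxyK : x * y * x⁻¹ = y * (c ^ s)⁻¹ := by
    rw [show y * (c ^ s)⁻¹ = x * (x⁻¹ * y * x) * x⁻¹ * (c ^ s)⁻¹ by group, hxy']
    rw [show x * (y * c ^ s) * x⁻¹ * (c ^ s)⁻¹ = x * y * (c ^ s * x⁻¹) * (c ^ s)⁻¹ by group,
      (hxc'.inv_left.pow_right s).symm.eq]
    group
  have hyK : y ∈ K := subset_closure (Or.inl rfl)
  have hcK : c ∈ K := subset_closure (Or.inr rfl)
  have hxzK : x * z * x⁻¹ = (y * (c ^ s)⁻¹) ^ (-(e : ℤ)) * z := by
    calc x * z * x⁻¹ = ((x * y * x⁻¹) ^ (e : ℤ))⁻¹ * (x * (y ^ e * z) * x⁻¹) := by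
          rw [conj_zpow, zpow_natCast]; group
      _ = _ := by rw [← hxz, hxyK, zpow_neg]; group
  haveI hBn : B.Normal := hnorm B y z hB
    (by rw [hxyK]; exact mul_mem hyB (inv_mem (pow_mem (pow_mem hzB _) _)))
    (by rw [hxzK]; exact mul_mem (zpow_mem (mul_mem hyB (inv_mem (pow_mem (pow_mem hzB _) _))) _) hzB)
    (by simpa using hyB) (by rw [hyz, mul_inv_cancel_right]; exact hzB)
    (by rw [← hyz, mul_inv_cancel_right]; exact hyB) (by simpa using hzB)
  haveI hKn : K.Normal := hnorm K y c hK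
    (by rw [hxyK]; exact mul_mem hyK (inv_mem (pow_mem hcK _)))
    (by rw [hxc'.eq, mul_inv_cancel_right]; exact hcK)
    (by simpa using hyK) (by rw [hyc.eq, mul_inv_cancel_right]; exact hcK)
    (by rw [← hyz, mul_inv_cancel_right]; exact hyK) (by rw [hzc.eq, mul_inv_cancel_right]; exact hcK)
  have hGK : commutator G ≤ K := by
    refine commutator_le_of_gen hgen ?_
    have hxyc : ⁅x, y⁆ ∈ K := by
      rw [commutatorElement_def, hxyK]; exact mul_mem (mul_mem hyK (inv_mem (pow_mem hcK _))) (inv_mem hyK)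
    have hxzc : ⁅x, z⁆ ∈ K := by
      rw [commutatorElement_def, hxzK, mul_inv_cancel_right]
      exact zpow_mem (mul_mem hyK (inv_mem (pow_mem hcK _))) _
    have hyzc : ⁅y, z⁆ ∈ K := by
      rw [commutatorElement_eq_one_iff_mul_comm.mpr hyz]; exact one_mem _
    rintro u (rfl | rfl | rfl) v (rfl | rfl | rfl) <;>
      first
        | (rw [commutatorElement_self]; exact one_mem _)
        | assumption
        | (rw [← commutatorElement_inv]; exact inv_mem ‹_›)
  have hKc : ∀ g : G, ∀ u ∈ K, g * u * g⁻¹ * u⁻¹ ∈ zpowers c := by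
    intro g u hu
    have : g ∈ closure ({x, y, z} : Set G) := hgen ▸ mem_top g
    have hcomm : ∀ v ∈ ({x, y, z} : Set G), v * u * v⁻¹ * u⁻¹ ∈ zpowers c := by
      intro v hv
      rcases hv with hvx | hvy | hvz
      rotate_left 2
      · rw [Set.mem_singleton_iff.mp hvz, (hBab _ hzB u (hKB hu)).eq, mul_inv_cancel_right, mul_inv_cancel]
        exact one_mem _
      · rw [hvx]
        clear hvx
        induction hu using closure_induction with
        | mem w hw =>
          rcases hw with rfl | rfl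
          · rw [hxyK, (hyc.pow_right s).inv_right.eq, mul_inv_cancel_right]
            exact inv_mem (pow_mem (mem_zpowers _) _)
          · rw [hxc'.eq, mul_inv_cancel_right, mul_inv_cancel]; exact one_mem _
        | one => simp
        | mul w w' _ _ h h' =>
          rw [show x * (w * w') * x⁻¹ * (w * w')⁻¹ = (x * w * x⁻¹ * w⁻¹) * (w * (x * w' * x⁻¹ * w'⁻¹) * w⁻¹) by group]
          exact mul_mem h (hcN.conj_mem _ h' w)
        | inv w _ h =>
          rw [show x * w⁻¹ * x⁻¹ * w⁻¹⁻¹ = w⁻¹ * (w * (x * w⁻¹ * x⁻¹)) * w⁻¹⁻¹ by group]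
          refine hcN.conj_mem _ ?_ _
          rw [show w * (x * w⁻¹ * x⁻¹) = (x * w * x⁻¹ * w⁻¹)⁻¹ by group]
          exact inv_mem h
      · rw [hvy, (hBab _ hyB u (hKB hu)).eq, mul_inv_cancel_right, mul_inv_cancel]; exact one_mem _
    induction this using closure_induction with
    | mem v hv => exact hcomm v hv
    | one => simp
    | mul v w _ _ h h' =>
      rw [show v * w * u * (v * w)⁻¹ * u⁻¹ = (v * (w * u * w⁻¹ * u⁻¹) * v⁻¹) * (v * u * v⁻¹ * u⁻¹) by group]
      exact mul_mem (hcN.conj_mem _ h' v) h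
    | inv v _ h =>
      rw [show v⁻¹ * u * v⁻¹⁻¹ * u⁻¹ = v⁻¹ * (v * u * v⁻¹ * u⁻¹)⁻¹ * v⁻¹⁻¹ by group]
      exact hcN.conj_mem _ (inv_mem h) _
  -- order of `z`
  have hBsup : B = zpowers y ⊔ zpowers z := by
    rw [hB, zpowers_eq_closure, zpowers_eq_closure, ← Subgroup.closure_union]; rfl
  have hBcard : Nat.card B ≤ p * orderOf z := by
    let f : zpowers y × zpowers z → B := fun w =>
      ⟨(w.1 : G) * w.2, mul_mem (zpowers_le.mpr hyB w.1.2) (zpowers_le.mpr hzB w.2.2)⟩
    have hf : Function.Surjective f := by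
      rintro ⟨u, hu⟩
      have hu' := hu
      rw [hBsup, sup_eq_closure_mul] at hu'
      suffices ∃ w, ((f w : B) : G) = u by obtain ⟨w, hw⟩ := this; exact ⟨w, Subtype.ext hw⟩
      clear hu
      induction hu' using closure_induction with
      | mem w hw =>
        obtain ⟨a, ha, b, hb, rfl⟩ := hw
        exact ⟨(⟨a, ha⟩, ⟨b, hb⟩), rfl⟩
      | one => exact ⟨(1, 1), by simp [f]⟩
      | mul w w' _ _ h h' =>
        obtain ⟨⟨a, b⟩, hab⟩ := h
        obtain ⟨⟨a', b'⟩, hab'⟩ := h'
        refine ⟨(a * a', b * b'), ?_⟩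
        have e1 : (a : G) * b = w := hab
        have e2 : (a' : G) * b' = w' := hab'
        have hcm : Commute (b : G) (a' : G) :=
          hBab _ (zpowers_le.mpr hzB b.2) _ (zpowers_le.mpr hyB a'.2)
        show (a : G) * a' * ((b : G) * b') = w * w'
        rw [← e1, ← e2, mul_assoc, ← mul_assoc (a' : G), ← hcm.eq]
        group
      | inv w _ h =>
        obtain ⟨⟨a, b⟩, hab⟩ := h
        refine ⟨(a⁻¹, b⁻¹), ?_⟩
        have e1 : (a : G) * b = w := hab
        have hcm : Commute (a : G) (b : G) := hBab _ (zpowers_le.mpr hyB a.2) _ (zpowers_le.mpr hzB b.2)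
        show (a : G)⁻¹ * (b : G)⁻¹ = w⁻¹
        rw [← e1, mul_inv_rev, hcm.inv_inv.eq]
    have h := Nat.card_le_card_of_surjective f hf
    rw [Nat.card_prod, Nat.card_zpowers, Nat.card_zpowers] at h
    exact h.trans (Nat.mul_le_mul_right _ (orderOf_le_of_pow_eq_one hp.out.pos hy))
  have htop : B ⊔ zpowers x = ⊤ := top_unique (hgen ▸ (closure_le _).mpr (by
    rintro u (rfl | rfl | rfl)
    · exact mem_sup_right (mem_zpowers _)
    · exact mem_sup_left hyB
    · exact mem_sup_left hzB))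
  have hrep : ∀ g : G, ∃ u ∈ B, ∃ a : ℤ, g = u * x ^ a := fun g => by
    obtain ⟨u, hu, v, ⟨a, rfl⟩, e⟩ := mem_sup_of_normal_left.mp (htop ▸ mem_top g)
    exact ⟨u, hu, a, e.symm⟩
  have hGcard : Nat.card G ≤ p * Nat.card B := by
    let f : B × zpowers x → G := fun w => (w.1 : G) * w.2
    have hf : Function.Surjective f := fun g => by
      obtain ⟨u, hu, a, rfl⟩ := hrep g
      exact ⟨(⟨u, hu⟩, ⟨x ^ a, zpow_mem (mem_zpowers _) _⟩), rfl⟩
    have h := Nat.card_le_card_of_surjective f hf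
    rw [Nat.card_prod, Nat.card_zpowers, mul_comm] at h
    exact h.trans (Nat.mul_le_mul_right _ (orderOf_le_of_pow_eq_one hp.out.pos hx))
  have hc1 : c ≠ 1 := fun h => by
    have hle : orderOf z ≤ p ^ (n - 3) := orderOf_le_of_pow_eq_one (pow_pos hp.out.pos _) h
    have := hGcard.trans (Nat.mul_le_mul_left _ (hBcard.trans (Nat.mul_le_mul_left _ hle)))
    rw [hn, ← mul_assoc, ← sq, ← pow_add] at this
    have := (Nat.pow_le_pow_iff_right hp1).mp this
    omega
  have hco : orderOf c = p := orderOf_eq_prime hcp hc1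
  -- the power map
  set q := p ^ (n - 3) with hq
  have hq' : q = p * p ^ (n - 4) := by rw [hq, ← pow_succ']; congr 1; omega
  have hBq : ∀ u ∈ B, u ^ q ∈ zpowers c := fun u hu => by
    induction hu using closure_induction with
    | mem v hv =>
      rcases hv with rfl | rfl
      · rw [hq', pow_mul, hy, one_pow]; exact one_mem _
      · exact mem_zpowers c
    | one => rw [one_pow]; exact one_mem _
    | mul v w hv hw h h' => rw [(hBab v hv w hw).mul_pow]; exact mul_mem h h'
    | inv v _ h => rw [inv_pow]; exact inv_mem h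
  have hval : ∀ u ∈ B, ∀ a : ℤ, (u * x ^ a) ^ q = u ^ q := by
    intro u hu a
    set X := x ^ a with hX
    have hXp : X ^ p = 1 := zpow_pow_eq_one hx a
    set c1 := X * u * X⁻¹ * u⁻¹ with hc1d
    have hc1K : c1 ∈ K := hGK (commutator_mem_commutator (mem_top X) (mem_top u))
    set e1 := X * c1 * X⁻¹ * c1⁻¹ with he1d
    have he1c : e1 ∈ zpowers c := hKc X c1 hc1K
    have he1C : e1 ∈ center G := zpowers_le.mpr hcC he1c
    have hcen : ∀ g : G, Commute g e1 := fun g => Subgroup.mem_center_iff.mp he1C g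
    have h1 : X * u * X⁻¹ = c1 * u := by rw [hc1d]; group
    have h2 : X * c1 * X⁻¹ = e1 * c1 := by rw [he1d]; group
    have h3 : X * e1 * X⁻¹ = e1 := by rw [(hcen X).eq, mul_inv_cancel_right]
    have h := CfsgLib.PGroup.PCentralPow.mul_pow_iter h1 h2 h3 (hcen c1) (hBab u hu c1 (hKB hc1K)) (hcen u) p
    rw [hXp, mul_one, CfsgLib.PGroup.PCentralPow.pow_choose_two hodd (hKp c1 hc1K), mul_one] at h
    have he1p : e1 ^ p = 1 := hKp e1 (zpowers_le.mpr hcK he1c)
    rw [hq', pow_mul, h, ((hcen (u ^ p)).pow_right _).mul_pow, ← pow_mul u, ← hq', ← pow_mul]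
    rcases hflag with h3p | h5 | he
    · rw [pow_mul, CfsgLib.PGroup.PCentralPow.pow_choose_three h3p he1p, one_pow, mul_one]
    · obtain ⟨t, ht⟩ : p ∣ p ^ (n - 4) := dvd_pow_self p (by omega)
      rw [ht, show p.choose 3 * (p * t) = p * (p.choose 3 * t) by ring, pow_mul, he1p, one_pow, mul_one]
    · have hcc : commutator G ≤ zpowers c := by
        have hxy2 : ⁅x, y⁆ ∈ zpowers c := hKc x y hyK
        have hxz2 : ⁅x, z⁆ ∈ zpowers c := by
          rw [commutatorElement_def, hxzK, he]; simp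
        have hyz2 : ⁅y, z⁆ ∈ zpowers c := by
          rw [commutatorElement_eq_one_iff_mul_comm.mpr hyz]; exact one_mem _
        refine commutator_le_of_gen hgen ?_
        rintro u (rfl | rfl | rfl) v (rfl | rfl | rfl) <;>
          first
            | (rw [commutatorElement_self]; exact one_mem _)
            | assumption
            | (rw [← commutatorElement_inv]; exact inv_mem ‹_›)
      have hc1c : c1 ∈ center G :=
        zpowers_le.mpr hcC (hcc (commutator_mem_commutator (mem_top X) (mem_top u)))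
      rw [show e1 = 1 by rw [he1d, Subgroup.mem_center_iff.mp hc1c X]; group, one_pow, mul_one]
  refine ⟨q, c, fun g g' => ?_, fun g => ?_, hco, fun w hw hwC => ?_, z, hc1⟩
  · obtain ⟨u, hu, a, rfl⟩ := hrep g
    obtain ⟨v, hv, b, rfl⟩ := hrep g'
    have hv' : x ^ a * v * (x ^ a)⁻¹ ∈ B := hBn.conj_mem v hv _
    rw [show u * x ^ a * (v * x ^ b) = u * (x ^ a * v * (x ^ a)⁻¹) * x ^ (a + b) by rw [zpow_add]; group,
      hval _ (mul_mem hu hv') _, hval _ hu, hval _ hv, (hBab u hu _ hv').mul_pow, conj_pow,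
      Subgroup.mem_center_iff.mp (zpowers_le.mpr hcC (hBq v hv)) (x ^ a), mul_inv_cancel_right]
  · obtain ⟨u, hu, a, rfl⟩ := hrep g
    rw [hval u hu]; exact hBq u hu
  · -- central elements of the derived subgroup
    have hKrep : ∀ v ∈ K, ∃ i j : ℤ, v = y ^ i * c ^ j := fun v hv => by
      induction hv using closure_induction with
      | mem w hw =>
        rcases hw with rfl | rfl
        · exact ⟨1, 0, by simp⟩
        · exact ⟨0, 1, by simp⟩
      | one => exact ⟨0, 0, by simp⟩
      | mul w w' _ _ h h' =>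
        obtain ⟨i, j, rfl⟩ := h
        obtain ⟨i', j', rfl⟩ := h'
        refine ⟨i + i', j + j', ?_⟩
        rw [zpow_add, zpow_add, mul_assoc, ← mul_assoc (c ^ j), ← (hyc.zpow_zpow i' j).eq]; group
      | inv w _ h =>
        obtain ⟨i, j, rfl⟩ := h
        exact ⟨-i, -j, by rw [mul_inv_rev, ← zpow_neg, ← zpow_neg, (hyc.zpow_zpow (-i) (-j)).eq]⟩
    obtain ⟨i, j, rfl⟩ := hKrep w (hGK hw)
    have hyi : y ^ i ∈ center G := by
      have := mul_mem hwC (inv_mem (zpow_mem hcC j))
      rwa [mul_inv_cancel_right] at this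
    by_cases hdvd : (p : ℤ) ∣ i
    · obtain ⟨t, rfl⟩ := hdvd
      rw [zpow_mul, zpow_natCast, hy, one_zpow, one_mul]
      exact zpow_mem (mem_zpowers c) j
    · exfalso
      obtain ⟨a, b, hab⟩ := (Nat.prime_iff_prime_int.mp hp.out).coprime_iff_not_dvd.mpr hdvd
      have hyC : y ∈ center G := by
        have h := zpow_mem hyi b
        rw [← zpow_mul, show i * b = 1 - a * p by linarith, zpow_sub, mul_comm a, zpow_mul, zpow_natCast, hy,
          one_zpow, inv_one, mul_one, zpow_one] at h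
        exact h
      refine hs (dvd_of_pow_eq_one hcp hc1 ?_)
      have := hxy'
      rw [Subgroup.mem_center_iff.mp hyC x⁻¹, mul_assoc, inv_mul_cancel, mul_one] at this
      exact (mul_eq_left.mp this.symm)

/-- Both exceptional families, apart from order `3 ^ 4` in the second. -/
theorem power_hom (hodd : p ≠ 2) {n : ℕ} (hn : Nat.card G = p ^ n) (h4 : 4 ≤ n)
    (h : FamilyOne p n G ∨ FamilyTwo p n G ∧ (p = 3 → 5 ≤ n)) :
    ∃ (q : ℕ) (c : G), (∀ u v : G, (u * v) ^ q = u ^ q * v ^ q) ∧ (∀ u : G, u ^ q ∈ zpowers c) ∧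
      orderOf c = p ∧ (∀ w ∈ commutator G, w ∈ center G → w ∈ zpowers c) ∧ ∃ u : G, u ^ q ≠ 1 := by
  rcases h with ⟨-, x, y, z, hgen, hx, hy, hz, hxz, hyz, hxy⟩ | ⟨⟨-, s, x, y, z, hs, hgen, hx, hy, hz, hyz, hxy, hxz⟩, h3⟩
  · refine power_hom_aux hodd hn h4 x y z 0 1 (fun h => hp.out.not_dvd_one h) hgen hx hy hz hyz
      (by rw [one_mul]; exact hxy) ?_ (Or.inr (Or.inr rfl))
    rw [pow_zero, one_mul, mul_assoc, ← hxz, inv_mul_cancel_left]
  · refine power_hom_aux hodd hn h4 x y z 1 s (fun h => ?_) hgen hx hy hz hyz hxy (by rw [pow_one]; exact hxz) ?_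
    · rcases hs with rfl | hs
      · exact hp.out.not_dvd_one h
      · exact hs (by rw [(ZMod.natCast_eq_zero_iff _ _).mpr h]; exact IsSquare.zero)
    · by_cases h3p : 3 < p
      · exact Or.inl h3p
      · have := hp.out.two_le
        exact Or.inr (Or.inl (h3 (by omega)))

end CfsgLib.LocalEvenB.IsolatedSylow
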