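import Mathlib
import Cfsg.Agent.Lib.LocalEvenB.IsolatedSylow.Thin
import Cfsg.Agent.Lib.Solvable.FrattiniFitting

/-!
Automorphisms fixing the centre of a thin `3`-group of even exponent act trivially on `M` modulo Frattini.
-/

set_option autoImplicit false
set_option linter.style.haveILetI false

open Subgroup
open scoped commutatorElement

namespace CfsgLib.LocalEvenB.IsolatedSylow.Thin

open CfsgLib.PGroup.RankTwoOdd (zpowers_eq_of_mem)

variable {G : Type*} [Group G] [Finite G] (T : Thin G) (hG : IsPGroup 3 G)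

/-- The centre is `⟨z⟩`. -/
theorem mem_zpowers_of_center {u : G} (hu : u ∈ center G) : u ∈ zpowers T.D.z := by
  have hc := Subgroup.mem_center_iff.mp hu
  exact T.fix0 u (T.D.mem_M.mpr (hc T.D.a).symm) (by rw [hc T.x0, mul_inv_cancel_right])

theorem isCoatom_M : IsCoatom T.D.M := by
  refine ⟨fun h => T.hx0 (h ▸ mem_top _), fun H hlt => ?_⟩
  have h1 := Subgroup.relIndex_mul_index hlt.le
  rw [T.idx] at h1
  rcases Nat.prime_three.eq_one_or_self_of_dvd H.index ⟨_, (mul_comm _ _).trans h1 |>.symm⟩ with h | h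
  · exact Subgroup.index_eq_one.mp h
  · rw [h] at h1
    exact absurd (Subgroup.relIndex_eq_one.mp (mul_eq_right₀ (by norm_num : (3 : ℕ) ≠ 0) |>.mp h1)) hlt.not_ge

theorem frattini_le_M : frattini G ≤ T.D.M := frattini_le_coatom T.isCoatom_M

theorem card_M {n : ℕ} (hn : Nat.card G = 3 ^ n) : 3 * Nat.card T.D.M = 3 ^ n := by
  rw [← hn, ← Subgroup.card_mul_index T.D.M, T.idx, mul_comm]

include hG in
theorem card_M_le_frattini : Nat.card T.D.M ≤ 3 * Nat.card (frattini G) :=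
  T.card_le hG T.hx0 le_rfl fun u _ => by
    have := CfsgLib.PGroup.Frattini.commutatorElement_mem_frattini hG u T.x0
    rwa [commutatorElement_def] at this

include hG in
theorem z_mem_frattini {n : ℕ} (hn : Nat.card G = 3 ^ n) (h4 : 4 ≤ n) : T.D.z ∈ frattini G := by
  have hne : frattini G ≠ ⊥ := fun h => by
    have h1 := T.card_M_le_frattini hG
    have h2 := T.card_M hn
    rw [h, Subgroup.card_bot] at h1
    have := Nat.pow_le_pow_right (show 3 > 0 by norm_num) h4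
    omega
  haveI := hG.isNilpotent
  obtain ⟨⟨u, hu⟩, hu'⟩ := Subgroup.ne_bot_iff_exists_ne_one.mp
    (CfsgLib.Solvable.FrattiniFitting.inf_center_ne_bot (frattini G) hne)
  have hu1 : u ≠ 1 := fun e => hu' (Subtype.ext e)
  have hz := T.mem_zpowers_of_center hu.2
  have heq := zpowers_eq_of_mem T.D.z_ord hz hu1
  exact zpowers_le.mpr hu.1 (heq ▸ mem_zpowers _)

include hG in
theorem A_le_frattini {n : ℕ} (hn : Nat.card G = 3 ^ n) (h4 : 4 ≤ n) : T.D.A ≤ frattini G := by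
  refine T.A_le hG T.hx0 T.frattini_le_M (fun v hv => ?_) (T.z_mem_frattini hG hn h4) ?_
  · exact (inferInstance : (frattini G).Normal).conj_mem v hv _
  · have h1 := T.card_M_le_frattini hG
    have h2 := T.card_M hn
    have := Nat.pow_le_pow_right (show 3 > 0 by norm_num) h4
    omega

include hG in
/-- Automorphisms fixing `z` preserve `M`. -/
theorem map_M {n : ℕ} (hn : Nat.card G = 3 ^ n) (h4 : 4 ≤ n) {t : MulAut G} (ht : t T.D.z = T.D.z) {v : G}
    (hv : v ∈ T.D.M) : t v ∈ T.D.M := by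
  have htop : ¬ (⊤ : Subgroup G) ≤ T.D.M := fun h => T.hx0 (h (mem_top _))
  have h81 : 81 ≤ Nat.card (⊤ : Subgroup G) := by
    rw [Subgroup.card_top, hn]
    exact (Nat.pow_le_pow_right (show 3 > 0 by norm_num) h4)
  have h := T.mem_M_iff hG htop (mem_top _) h81 (u := v) (mem_top _)
  refine (T.mem_M_iff hG htop (mem_top _) h81 (mem_top _)).mpr fun w _ hw => ?_
  have hz : ∀ u ∈ zpowers T.D.z, t⁻¹ u ∈ zpowers T.D.z := by
    rintro _ ⟨i, rfl⟩
    show t⁻¹ (T.D.z ^ i) ∈ _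
    rw [map_zpow, show t⁻¹ T.D.z = T.D.z by conv_lhs => rw [← ht]; exact MulAut.inv_apply_self _ _ _]
    exact zpow_mem (mem_zpowers _) i
  have h2 := h.mp hv (t⁻¹ w) (mem_top _) fun u _ => by
    have h3 := hz _ (hw (t u) (mem_top _))
    simp only [map_mul, map_inv, MulAut.inv_apply_self] at h3
    exact h3
  have h4 := congrArg t h2
  rw [map_mul, map_mul, MulAut.apply_inv_self] at h4
  exact h4

include hG in
/-- The weight theorem: with `n` even, such automorphisms are trivial on `M` modulo Frattini. -/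
theorem weight {n : ℕ} (hn : Nat.card G = 3 ^ n) (h4 : 4 ≤ n) (heven : Even n) {t : MulAut G}
    (ht : t T.D.z = T.D.z) {s : G} (hs : s ∈ T.D.M) : s⁻¹ * t s ∈ frattini G := by
  classical
  haveI hMn := T.D.M_normal
  set M := T.D.M with hMdef
  set Zs : Subgroup M := (zpowers T.D.z).subgroupOf M with hZs
  haveI : Zs.Normal := T.D.zpowers_normal.subgroupOf M
  letI instQ : CommGroup (M ⧸ Zs) :=
    { (inferInstance : Group (M ⧸ Zs)) with
      mul_comm := fun u v => by
        obtain ⟨u, rfl⟩ := QuotientGroup.mk_surjective u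
        obtain ⟨v, rfl⟩ := QuotientGroup.mk_surjective v
        rw [← QuotientGroup.mk_mul, ← QuotientGroup.mk_mul, QuotientGroup.eq]
        show ((u * v)⁻¹ * (v * u) : M).1 ∈ zpowers T.D.z
        have := T.comm_M hG (inv_mem v.2) (inv_mem u.2)
        simpa [commutatorElement_def, mul_assoc] using this }
  let mk : M →* M ⧸ Zs := QuotientGroup.mk' Zs
  have mk_eq : ∀ {u v : M}, ((u : G)⁻¹ * v) ∈ zpowers T.D.z → mk u = mk v := fun {u v} h =>
    QuotientGroup.eq.mpr h
  have mk_one : ∀ {u : M}, mk u = 1 ↔ (u : G) ∈ zpowers T.D.z := fun {u} => by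
    show (u : M ⧸ Zs) = 1 ↔ _
    exact QuotientGroup.eq_one_iff u
  -- automorphisms of `G` preserving `M` act on `(M ⧸ Zs)`
  have hmapt : ∀ v : M, t v ∈ M := fun v => T.map_M hG hn h4 ht v.2
  have hzfix : ∀ v ∈ zpowers T.D.z, t v = v := by
    rintro _ ⟨i, rfl⟩
    show t (T.D.z ^ i) = T.D.z ^ i
    rw [map_zpow, ht]
  let tM : M →* M := MonoidHom.mk' (fun v => ⟨t v, hmapt v⟩) fun u v => Subtype.ext (map_mul t _ _)
  let cM : G → (M →* M) := fun g => MonoidHom.mk' (fun v => ⟨g * v * g⁻¹, hMn.conj_mem _ v.2 g⟩)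
    fun u v => Subtype.ext (by show g * (u * v : G) * g⁻¹ = g * u * g⁻¹ * (g * v * g⁻¹); group)
  let τ : (M ⧸ Zs) →* (M ⧸ Zs) := QuotientGroup.map Zs Zs tM fun v hv => by
    show t (v : G) ∈ zpowers T.D.z
    rw [hzfix (v : G) hv]; exact hv
  let σ : G → ((M ⧸ Zs) →* (M ⧸ Zs)) := fun g => QuotientGroup.map Zs Zs (cM g) fun v hv => by
    show g * (v : G) * g⁻¹ ∈ zpowers T.D.z
    rw [T.conj_z g (u := (v : G)) hv]; exact hv
  let δ : (M ⧸ Zs) →* (M ⧸ Zs) := MonoidHom.mk' (fun q => σ T.x0 q * q⁻¹) fun u v => by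
    rw [map_mul, mul_inv]; exact mul_mul_mul_comm _ _ _ _
  have δ_mk : ∀ v : M, δ (mk v) = mk (cM T.x0 v * v⁻¹) := fun v => (map_mul mk _ _).symm ▸ rfl
  -- the kernel is the image of `A`
  set Ab : Subgroup (M ⧸ Zs) := (T.D.A.subgroupOf M).map mk with hAb
  have hker : δ.ker = Ab := by
    refine le_antisymm (fun q hq => ?_) ?_
    · obtain ⟨v, rfl⟩ := QuotientGroup.mk_surjective q
      have h1 : mk (cM T.x0 v * v⁻¹) = 1 := (δ_mk v).symm.trans hq
      exact ⟨v, T.near0 v.2 (mk_one.mp h1), rfl⟩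
    · rintro _ ⟨v, hv, rfl⟩
      show δ (mk v) = 1
      rw [δ_mk, mk_one]
      exact T.D.delta_mem T.x0 hv
  have hAle : ∀ R : Subgroup (M ⧸ Zs), (∀ q ∈ R, δ q ∈ R) → R ≠ ⊥ → Ab ≤ R := by
    intro R hR hne
    set K : Subgroup G := (R.comap mk).map M.subtype with hK
    have hzK : T.D.z ∈ K := ⟨⟨T.D.z, T.D.z_mem_M⟩, by
      show mk _ ∈ R
      rw [mk_one.mpr (mem_zpowers _)]; exact one_mem _, rfl⟩
    have hKle : K ≤ M := Subgroup.map_subtype_le _
    have h9 : 9 ≤ Nat.card K := by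
      have hlt : zpowers T.D.z < K := by
        refine lt_of_le_of_ne (zpowers_le.mpr hzK) fun e => hne ?_
        refine (Subgroup.eq_bot_iff_forall R).mpr fun q hq => ?_
        obtain ⟨v, rfl⟩ := QuotientGroup.mk_surjective q
        exact mk_one.mpr (e.ge ⟨v, hq, rfl⟩)
      have := CfsgLib.Fusion.MaxClass.card_mul_le_of_lt hG hlt
      rwa [Nat.card_zpowers, T.D.z_ord] at this
    have hA := T.A_le hG T.hx0 hKle (fun v hv => by
      obtain ⟨w, hw, rfl⟩ := hv
      refine ⟨cM T.x0 w, ?_, rfl⟩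
      show mk (cM T.x0 w) ∈ R
      have h := mul_mem (hR _ hw) (show mk w ∈ R from hw)
      rwa [δ_mk, ← map_mul, inv_mul_cancel_right] at h) hzK h9
    rintro _ ⟨v, hv, rfl⟩
    obtain ⟨w, hw, he⟩ := hA hv
    rw [show v = w from Subtype.ext he.symm]
    exact hw
  have hAcard : Nat.card Ab = 3 := by
    have h1 : Nat.card (T.D.A.subgroupOf M) = 9 := by
      rw [Nat.card_congr (Subgroup.subgroupOfEquivOfLe T.D.A_le_M).toEquiv, T.D.card_A]; norm_num
    have h2 := Subgroup.card_mul_index (mk.ker.subgroupOf (T.D.A.subgroupOf M))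
    have h3 : Nat.card (mk.ker.subgroupOf (T.D.A.subgroupOf M)) = 3 := by
      have hle : mk.ker ≤ T.D.A.subgroupOf M := fun v hv => T.z_le_A (mk_one.mp hv)
      rw [Nat.card_congr (Subgroup.subgroupOfEquivOfLe hle).toEquiv, QuotientGroup.ker_mk', hZs,
        Nat.card_congr (Subgroup.subgroupOfEquivOfLe (T.z_le_A.trans T.D.A_le_M)).toEquiv, Nat.card_zpowers,
        T.D.z_ord]
    have h4 : (mk.ker.subgroupOf (T.D.A.subgroupOf M)).index = Nat.card Ab := by
      rw [hAb, ← Subgroup.relIndex_ker]; rfl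
    rw [h1, h3, h4] at h2
    omega
  -- the iterated images
  let δi : ℕ → ((M ⧸ Zs) →* (M ⧸ Zs)) := fun i => Nat.rec (MonoidHom.id (M ⧸ Zs)) (fun _ f => δ.comp f) i
  have δi_zero : ∀ q, δi 0 q = q := fun _ => rfl
  have δi_succ : ∀ i q, δi (i + 1) q = δ (δi i q) := fun _ _ => rfl
  have hQcard : Nat.card (M ⧸ Zs) * 9 = 3 ^ n := by
    rw [← T.card_M hn, Subgroup.card_eq_card_quotient_mul_card_subgroup Zs,
      Nat.card_congr (Subgroup.subgroupOfEquivOfLe (T.z_le_A.trans T.D.A_le_M)).toEquiv, Nat.card_zpowers, T.D.z_ord]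
    ring
  have hcardR : ∀ i, i ≤ n - 2 → Nat.card (δi i).range * 3 ^ i = 3 ^ (n - 2) := by
    intro i
    induction i with
    | zero =>
      intro _
      rw [pow_zero, mul_one, show δi 0 = MonoidHom.id (M ⧸ Zs) from rfl, MonoidHom.range_eq_top.mpr Function.surjective_id,
        Subgroup.card_top]
      refine Nat.eq_of_mul_eq_mul_right (show 0 < 9 by norm_num) (hQcard.trans ?_)
      rw [show (9 : ℕ) = 3 ^ 2 by norm_num, ← pow_add]; congr 1; omega
    | succ i ih =>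
      intro hi
      have h1 := ih (by omega)
      have hne : (δi i).range ≠ ⊥ := fun h => by
        rw [h, Subgroup.card_bot, one_mul] at h1
        have := Nat.pow_right_injective (le_refl 2 |>.trans (by norm_num : 2 ≤ 3)) h1
        omega
      have hinv : ∀ q ∈ (δi i).range, δ q ∈ (δi i).range := by
        rintro _ ⟨q, rfl⟩
        refine ⟨δ q, ?_⟩
        clear h1 hne hi ih
        induction i with
        | zero => rfl
        | succ i ih => rw [δi_succ, ih, ← δi_succ]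
      have hA := hAle _ hinv hne
      have hr : (δi (i + 1)).range = (δi i).range.map δ := MonoidHom.range_comp _ _
      have h2 := Subgroup.card_mul_index (δ.ker.subgroupOf (δi i).range)
      rw [Nat.card_congr (Subgroup.subgroupOfEquivOfLe (hker ▸ hA)).toEquiv, hker, hAcard] at h2
      have h3 : (δ.ker.subgroupOf (δi i).range).index = Nat.card ((δi i).range.map δ) := by
        rw [← Subgroup.relIndex_ker]; rfl
      rw [hker] at h3
      rw [h3, ← hr] at h2
      rw [pow_succ, ← h1, ← h2]; ring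
  set m := n - 3 with hm
  have htop : (δi m).range = Ab := by
    have h1 := hcardR m (by omega)
    have h3 : Nat.card (δi m).range = 3 := by
      rw [show n - 2 = m + 1 by omega, pow_succ, mul_comm (3 ^ m)] at h1
      exact Nat.eq_of_mul_eq_mul_right (pow_pos (by norm_num) m) h1
    have hinv : ∀ q ∈ (δi m).range, δ q ∈ (δi m).range := by
      rintro _ ⟨q, rfl⟩
      refine ⟨δ q, ?_⟩
      clear h1 h3
      induction m with
      | zero => rfl
      | succ i ih => rw [δi_succ, ih, ← δi_succ]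
    exact (Subgroup.eq_of_le_of_card_ge (hAle _ hinv fun h => by rw [h, Subgroup.card_bot] at h3; omega)
      (by rw [h3, hAcard])).symm
  have htopσ : ∀ (g : G) q, σ g (δi m q) = δi m q := by
    intro g q
    obtain ⟨v, hv, he⟩ := htop.le (⟨q, rfl⟩ : δi m q ∈ (δi m).range)
    rw [← he]
    show mk (cM g v) = mk v
    refine (mk_eq ?_).symm
    show (v : G)⁻¹ * (g * v * g⁻¹) ∈ zpowers T.D.z
    have h : g * (v : G) * g⁻¹ * (v : G)⁻¹ ∈ zpowers T.D.z := T.D.delta_mem g (u := (v : G)) hv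
    rw [← T.conj_z (v : G)⁻¹ h] at h
    convert h using 1
    group
  have δi_comm : ∀ i q, δi i (δ q) = δi (i + 1) q := by
    intro i q
    induction i with
    | zero => rfl
    | succ i ih => rw [δi_succ, ih, δi_succ (i + 1)]
  -- the sign of `t` on `G / M`
  obtain ⟨ε, hε, m0, hm0, hgt⟩ : ∃ ε : ℤ, (ε = 1 ∨ ε = -1) ∧ ∃ m0 ∈ M, t T.x0 = T.x0 ^ ε * m0 := by
    rcases T.coset (t T.x0) with h | h | h
    · exfalso
      have ht' : t⁻¹ T.D.z = T.D.z := by conv_lhs => rw [← ht]; exact MulAut.inv_apply_self _ _ _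
      exact T.hx0 (by simpa using T.map_M hG hn h4 (t := t⁻¹) ht' h)
    · exact ⟨1, Or.inl rfl, _, h, by group⟩
    · exact ⟨-1, Or.inr rfl, _, h, by group⟩
  -- the action on the bottom `A`
  obtain ⟨ab, hab, habne⟩ : ∃ q ∈ Ab, q ≠ 1 := ⟨mk ⟨T.D.a, T.D.a_mem_M⟩, ⟨⟨T.D.a, T.D.a_mem_M⟩, T.D.a_mem_A, rfl⟩,
    fun h => T.D.a_notMem (mk_one.mp h)⟩
  have hτA : ∀ q ∈ Ab, τ q = q ^ ε := by
    rintro _ ⟨v, hv, rfl⟩
    show mk (tM v) = mk v ^ ε
    rw [← map_zpow]
    refine (mk_eq ?_).symm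
    show ((v : G) ^ ε)⁻¹ * t v ∈ zpowers T.D.z
    have hvA : (v : G) ∈ T.D.A := hv
    have htv : t (v : G) ∈ T.D.A :=
      T.D.mem_A_of_pow (by rw [← map_pow, T.D.pow_of_mem_A hvA, map_one]) (hmapt v)
    set w := ((v : G) ^ ε)⁻¹ * t v with hw
    have hwA : w ∈ T.D.A := mul_mem (inv_mem (zpow_mem hvA _)) htv
    refine T.D.mem_zpowers_of_fixed T.hx0 hwA ?_
    set c := T.x0 * v * T.x0⁻¹ * (v : G)⁻¹ with hc
    have hcz : c ∈ zpowers T.D.z := T.D.delta_mem T.x0 hvA
    have h1 : T.x0 * v * T.x0⁻¹ = c * v := by rw [hc]; group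
    have h2 := congrArg t h1
    rw [map_mul, map_mul, map_inv, map_mul, hzfix c hcz, hgt] at h2
    have hm0v : m0 * t v * m0⁻¹ = t v := by
      rw [← (T.D.commute_of_mem_A htv hm0).eq, mul_inv_cancel_right]
    have h2' : T.x0 ^ ε * t v * (T.x0 ^ ε)⁻¹ = c * t v := by
      rw [← h2]
      conv_lhs => rw [← hm0v]
      group
    have h5 : T.x0 * (v : G) ^ ε * T.x0⁻¹ = c ^ ε * (v : G) ^ ε := by
      rw [← conj_zpow, h1, ((T.comm_z (v : G) hcz).symm).mul_zpow]
    rcases hε with rfl | rfl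
    · rw [zpow_one] at h2' h5
      rw [hw, zpow_one] at *
      calc T.x0 * ((v : G)⁻¹ * t v) * T.x0⁻¹ = (T.x0 * v * T.x0⁻¹)⁻¹ * (T.x0 * t v * T.x0⁻¹) := by group
        _ = _ := by rw [h5, h2']; group
    · rw [zpow_neg, zpow_one] at h2' h5
      simp only [inv_inv] at h2'
      rw [hw, zpow_neg, zpow_one, inv_inv] at *
      have h6 : T.x0 * t v * T.x0⁻¹ = c⁻¹ * t v := by
        calc T.x0 * t v * T.x0⁻¹ = T.x0 * (c⁻¹ * (c * t v)) * T.x0⁻¹ := by group
          _ = T.x0 * c⁻¹ * T.x0⁻¹ * t v := by rw [← h2']; group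
          _ = _ := by rw [T.conj_z _ (inv_mem hcz)]
      calc T.x0 * ((v : G) * t v) * T.x0⁻¹ = (T.x0 * v * T.x0⁻¹) * (T.x0 * t v * T.x0⁻¹) := by group
        _ = _ := by rw [h1, h6, mul_assoc, ← mul_assoc (v : G), (T.comm_z (v : G) (inv_mem hcz)).eq]; group
  -- commutation of `τ` with `δ`
  have hinner : ∀ (g : G) (u : M) (q : (M ⧸ Zs)), σ (g * u) q = σ g q := by
    intro g u q
    obtain ⟨v, rfl⟩ := QuotientGroup.mk_surjective q
    show mk (cM (g * u) v) = mk (cM g v)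
    refine (mk_eq ?_).symm
    show (g * (v : G) * g⁻¹)⁻¹ * (g * u * v * (g * (u : G))⁻¹) ∈ zpowers T.D.z
    have h := T.comm_M hG (inv_mem v.2) u.2
    have h' := T.conj_z g h
    rw [commutatorElement_def] at h h'
    convert h using 1
    rw [← h']; group
  have hτσ : ∀ q, τ (σ T.x0 q) = σ (T.x0 ^ ε) (τ q) := by
    intro q
    obtain ⟨v, rfl⟩ := QuotientGroup.mk_surjective q
    show mk (tM (cM T.x0 v)) = σ (T.x0 ^ ε) (mk (tM v))
    rw [← hinner (T.x0 ^ ε) ⟨m0, hm0⟩]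
    show mk (tM (cM T.x0 v)) = mk (cM (T.x0 ^ ε * m0) (tM v))
    congr 1
    refine Subtype.ext ?_
    show t (T.x0 * v * T.x0⁻¹) = T.x0 ^ ε * m0 * t v * (T.x0 ^ ε * m0)⁻¹
    rw [map_mul, map_mul, map_inv, hgt]
  have hσinv : ∀ q, σ T.x0⁻¹ (σ T.x0 q) = q := by
    intro q
    obtain ⟨v, rfl⟩ := QuotientGroup.mk_surjective q
    show mk (cM T.x0⁻¹ (cM T.x0 v)) = mk v
    congr 1
    refine Subtype.ext ?_
    show T.x0⁻¹ * (T.x0 * v * T.x0⁻¹) * T.x0⁻¹⁻¹ = v
    group
  have hσδ : ∀ i (g : G), g = T.x0⁻¹ → ∀ q, δi i (σ g q) = σ g (δi i q) := by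
    intro i g hg q
    subst hg
    induction i with
    | zero => rfl
    | succ i ih =>
      rw [δi_succ, δi_succ, ih]
      obtain ⟨v, hv⟩ := QuotientGroup.mk_surjective (δi i q)
      rw [← hv]
      show σ T.x0 (σ T.x0⁻¹ (mk v)) * (σ T.x0⁻¹ (mk v))⁻¹ = σ T.x0⁻¹ (σ T.x0 (mk v) * (mk v)⁻¹)
      rw [map_mul (σ T.x0⁻¹), map_inv, hσinv]
      congr 1
      show mk (cM T.x0 (cM T.x0⁻¹ v)) = mk v
      congr 1
      refine Subtype.ext ?_
      show T.x0 * (T.x0⁻¹ * v * T.x0⁻¹⁻¹) * T.x0⁻¹ = v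
      group
  -- the main identity
  have hmain : ∀ i, i ≤ m → ∀ q, δi (m - i) (τ (δi i q)) = δi m (τ q) ^ (ε ^ i) := by
    intro i
    induction i with
    | zero => intro _ q; rw [pow_zero, zpow_one, Nat.sub_zero, δi_zero]
    | succ i ih =>
      intro hi q
      have key : δi (m - (i + 1)) (τ (δ (δi i q))) = δi (m - i) (τ (δi i q)) ^ ε := by
        have hstep : δi (m - i) (τ (δi i q)) = δi (m - (i + 1)) (δ (τ (δi i q))) := by
          rw [δi_comm, show m - (i + 1) + 1 = m - i by omega]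
        generalize hj : m - (i + 1) = j at hstep ⊢
        set u := δi i q
        have hfixtop : ∀ g : G, σ g (δi (m - i) (τ u)) = δi (m - i) (τ u) := fun g => by
          have h' : δi (m - i) (τ u) = δi (m - i) (τ (δi i q)) := rfl
          rw [h', ih (by omega) q, map_zpow, htopσ]
        show δi j (τ (σ T.x0 u * u⁻¹)) = _
        rw [map_mul, map_inv, hτσ]
        rcases hε with rfl | rfl
        · rw [zpow_one, zpow_one, hstep]; rfl
        · rw [zpow_neg, zpow_one, zpow_neg, zpow_one]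
          have e : σ T.x0⁻¹ (τ u) * (τ u)⁻¹ = (σ T.x0⁻¹ (δ (τ u)))⁻¹ := by
            show _ = (σ T.x0⁻¹ (σ T.x0 (τ u) * (τ u)⁻¹))⁻¹
            rw [map_mul (σ T.x0⁻¹), hσinv, map_inv, mul_inv, inv_inv, mul_comm]
          rw [e, map_inv, hσδ j _ rfl, ← hstep, hfixtop]
      rw [δi_succ, key, ih (by omega) q, ← zpow_mul, pow_succ]
  -- conclusion
  set sM : M := ⟨s, hs⟩
  have h1 := hmain m le_rfl (mk sM)
  rw [Nat.sub_self, δi_zero, hτA _ (htop ▸ ⟨mk sM, rfl⟩)] at h1
  have hodd : Odd m := by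
    obtain ⟨k, hk⟩ := heven
    exact ⟨k - 2, by omega⟩
  have hεm : ε ^ m = ε := by
    rcases hε with rfl | rfl
    · exact one_pow m
    · exact hodd.neg_one_pow
  rw [hεm] at h1
  have h2 : δi m (mk sM) = δi m (τ (mk sM)) := by
    rcases hε with rfl | rfl
    · simpa using h1
    · simpa using h1
  set d := (mk sM)⁻¹ * τ (mk sM)
  have hd : d ∈ (δi m).ker := by
    rw [MonoidHom.mem_ker, map_mul, map_inv, ← h2, inv_mul_cancel]
  have hk : (δi 1).range = (δi m).ker := by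
    refine Subgroup.eq_of_le_of_card_ge ?_ ?_
    · rintro _ ⟨q, rfl⟩
      rw [MonoidHom.mem_ker]
      show δi m (δ q) = 1
      rw [δi_comm, δi_succ]
      exact (MonoidHom.mem_ker).mp (hker.ge (htop.le ⟨q, rfl⟩))
    · have h1 := hcardR 1 (by omega)
      have h2 := Subgroup.card_mul_index (δi m).ker
      rw [Subgroup.index_ker, htop, hAcard] at h2
      have h3 := hcardR 0 (by omega)
      rw [pow_zero, mul_one, show δi 0 = MonoidHom.id (M ⧸ Zs) from rfl, MonoidHom.range_eq_top.mpr Function.surjective_id,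
        Subgroup.card_top] at h3
      rw [pow_one] at h1
      omega
  obtain ⟨q, hq⟩ := hk.ge hd
  obtain ⟨v, rfl⟩ := QuotientGroup.mk_surjective q
  have hq' : mk (cM T.x0 v * v⁻¹) = mk (sM⁻¹ * tM sM) := by
    rw [← δ_mk]; exact hq
  have hmem := QuotientGroup.eq.mp hq'
  have hF1 : T.x0 * (v : G) * T.x0⁻¹ * (v : G)⁻¹ ∈ frattini G :=
    CfsgLib.PGroup.Frattini.commutatorElement_mem_frattini hG T.x0 (v : G)
  have hF2 : (T.x0 * (v : G) * T.x0⁻¹ * (v : G)⁻¹)⁻¹ * (s⁻¹ * t s) ∈ frattini G :=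
    zpowers_le.mpr (T.z_mem_frattini hG hn h4) hmem
  have := mul_mem hF1 hF2
  rwa [mul_inv_cancel_left] at this

end CfsgLib.LocalEvenB.IsolatedSylow.Thin
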