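import Mathlib
import Cfsg.Agent.Lib.LocalEvenB.IsolatedSylow.ThinWeight
import Cfsg.Agent.Lib.LocalEven.SylowIn
import Cfsg.Agent.Lib.FusionSystem.Group
import Cfsg.Agent.Lib.FusionSystem.Alperin

/-!
The subgroups of a thin Sylow `3`-subgroup seen in the ambient group, and the normaliser tower.
-/

set_option autoImplicit false
set_option linter.style.haveILetI false

open Subgroup
open scoped commutatorElement

namespace CfsgLib.LocalEvenB.IsolatedSylow.Thin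

open CfsgLib.LocalEven.SylowIn

variable {C : Type*} [Group C] [Finite C] {P : Sylow 3 C} (T : Thin ↥(P : Subgroup C))

/-- `M` in the ambient group. -/
def Mc : Subgroup C := T.D.M.map (P : Subgroup C).subtype

/-- `A` in the ambient group. -/
def Ac : Subgroup C := T.D.A.map (P : Subgroup C).subtype

/-- `Z` in the ambient group. -/
def Zc : Subgroup C := zpowers (T.D.z : C)

/-- The Frattini subgroup in the ambient group. -/
def Fc : Subgroup C := (frattini ↥(P : Subgroup C)).map (P : Subgroup C).subtype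

theorem mem_Mc {u : C} (hu : u ∈ (P : Subgroup C)) : u ∈ T.Mc ↔ (⟨u, hu⟩ : (P : Subgroup C)) ∈ T.D.M :=
  ⟨fun ⟨v, hv, e⟩ => by rwa [show (⟨u, hu⟩ : (P : Subgroup C)) = v from Subtype.ext e.symm],
    fun h => ⟨_, h, rfl⟩⟩

theorem mem_Ac {u : C} (hu : u ∈ (P : Subgroup C)) : u ∈ T.Ac ↔ (⟨u, hu⟩ : (P : Subgroup C)) ∈ T.D.A :=
  ⟨fun ⟨v, hv, e⟩ => by rwa [show (⟨u, hu⟩ : (P : Subgroup C)) = v from Subtype.ext e.symm],
    fun h => ⟨_, h, rfl⟩⟩

theorem mem_Zc {u : C} (hu : u ∈ (P : Subgroup C)) :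
    u ∈ T.Zc ↔ (⟨u, hu⟩ : (P : Subgroup C)) ∈ zpowers T.D.z := by
  constructor
  · rintro ⟨i, hi⟩
    exact ⟨i, Subtype.ext (by simpa using hi)⟩
  · rintro ⟨i, hi⟩
    exact ⟨i, by simpa using congrArg Subtype.val hi⟩

theorem Mc_le : T.Mc ≤ (P : Subgroup C) := map_subtype_le _

theorem Ac_le_Mc : T.Ac ≤ T.Mc := map_mono T.D.A_le_M

theorem Zc_le_Ac : T.Zc ≤ T.Ac := zpowers_le.mpr ⟨_, T.D.z_mem_A, rfl⟩

theorem Zc_le : T.Zc ≤ (P : Subgroup C) := (T.Zc_le_Ac.trans T.Ac_le_Mc).trans T.Mc_le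

theorem card_Mc {H : Subgroup C} (hH : H ≤ (P : Subgroup C)) (hHM : ¬ H ≤ T.Mc) :
    3 * Nat.card (H ⊓ T.Mc : Subgroup C) = Nat.card H := by
  have h := T.card_inf (H := H.subgroupOf (P : Subgroup C)) fun h => hHM fun u hu =>
    (T.mem_Mc (hH hu)).mpr (h (show (⟨u, hH hu⟩ : (P : Subgroup C)) ∈ H.subgroupOf _ from hu))
  have e : (H.subgroupOf (P : Subgroup C) ⊓ T.D.M).map (P : Subgroup C).subtype = H ⊓ T.Mc := by
    rw [map_inf _ _ _ (P : Subgroup C).subtype_injective, map_subgroupOf_eq_of_le hH]; rfl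
  rwa [← e, card_map_of_injective (P : Subgroup C).subtype_injective,
    ← Nat.card_congr (subgroupOfEquivOfLe hH).toEquiv]

/-- Normalisers inside the Sylow subgroup. -/
theorem card_normalizerIn {H : Subgroup C} (hH : H ≤ (P : Subgroup C)) (hHM : ¬ H ≤ T.Mc) :
    Nat.card ((P : Subgroup C) ⊓ normalizer (H : Set C) : Subgroup C) ≤ 3 * Nat.card H := by
  have h := T.card_normalizer P.2 (H := H.subgroupOf (P : Subgroup C)) fun h => hHM fun u hu =>
    (T.mem_Mc (hH hu)).mpr (h (show (⟨u, hH hu⟩ : (P : Subgroup C)) ∈ H.subgroupOf _ from hu))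
  rw [Nat.card_congr (subgroupOfEquivOfLe hH).toEquiv] at h
  refine le_trans ?_ h
  have hle : ((P : Subgroup C) ⊓ normalizer (H : Set C) : Subgroup C) ≤
      (normalizer ((H.subgroupOf (P : Subgroup C) : Subgroup ↥(P : Subgroup C)) : Set ↥(P : Subgroup C))).map
        (P : Subgroup C).subtype := by
    rintro u ⟨hu, hun⟩
    refine ⟨⟨u, hu⟩, mem_normalizer_iff.mpr fun v => ?_, rfl⟩
    exact mem_normalizer_iff.mp hun v
  exact (card_le_of_le hle).trans
    (card_map_of_injective (f := (P : Subgroup C).subtype) (P : Subgroup C).subtype_injective).le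

/-- Membership in `M` in terms of the group. -/
theorem mem_Mc_iff {H : Subgroup C} (hH : H ≤ (P : Subgroup C)) (hHM : ¬ H ≤ T.Mc) (hz : (T.D.z : C) ∈ H)
    (h81 : 81 ≤ Nat.card H) {u : C} (hu : u ∈ H) :
    u ∈ T.Mc ↔ ∀ v ∈ H, (∀ w ∈ H, w * v * w⁻¹ * v⁻¹ ∈ T.Zc) → u * v = v * u := by
  have h := T.mem_M_iff P.2 (H := H.subgroupOf (P : Subgroup C)) (fun h => hHM fun u hu =>
    (T.mem_Mc (hH hu)).mpr (h (show (⟨u, hH hu⟩ : (P : Subgroup C)) ∈ H.subgroupOf _ from hu))) hz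
    (by rwa [Nat.card_congr (subgroupOfEquivOfLe hH).toEquiv]) (u := ⟨u, hH hu⟩) hu
  rw [T.mem_Mc (hH hu), h]
  constructor
  · intro h' v hv hw
    exact congrArg Subtype.val (h' ⟨v, hH hv⟩ hv fun w hwH => (T.mem_Zc _).mp (hw w hwH))
  · intro h' v hv hw
    exact Subtype.ext (h' v hv fun w hwH => (T.mem_Zc _).mpr (hw ⟨w, hH hwH⟩ hwH))

theorem Fc_le_Mc : Fc (P := P) ≤ T.Mc := map_mono T.frattini_le_M

/-- A proper subgroup meets `M` inside the Frattini subgroup unless it lies in `M`. -/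
theorem inf_Mc_le {n : ℕ} (hn : Nat.card (P : Subgroup C) = 3 ^ n) {H : Subgroup C} (hH : H < (P : Subgroup C))
    (hHM : ¬ H ≤ T.Mc) : H ⊓ T.Mc ≤ Fc (P := P) := by
  rintro u ⟨huH, huM⟩
  by_contra huF
  obtain ⟨g, hgH, hg⟩ := SetLike.not_le_iff_exists.mp hHM
  set F := frattini ↥(P : Subgroup C)
  have huF' : (⟨u, hH.le huH⟩ : (P : Subgroup C)) ∉ F := fun h => huF ⟨_, h, rfl⟩
  have hgM : (⟨g, hH.le hgH⟩ : (P : Subgroup C)) ∉ T.D.M := fun h => hg ⟨_, h, rfl⟩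
  set J : Subgroup ↥(P : Subgroup C) := F ⊔ zpowers (⟨u, hH.le huH⟩ : (P : Subgroup C))
  have hJM : J ≤ T.D.M := sup_le T.frattini_le_M (zpowers_le.mpr ((T.mem_Mc (hH.le huH)).mp huM))
  have hlt : F < J := lt_of_le_of_ne le_sup_left fun e => huF' (e ▸ mem_sup_right (mem_zpowers _))
  have h1 := CfsgLib.Fusion.MaxClass.card_mul_le_of_lt P.2 hlt
  have h2 := T.card_M_le_frattini P.2
  have hJ : J = T.D.M := eq_of_le_of_card_ge hJM (h2.trans h1)
  have htop : (J ⊔ zpowers (⟨g, hH.le hgH⟩ : (P : Subgroup C))) = ⊤ := by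
    rw [hJ]
    exact T.isCoatom_M.2 _ (lt_of_le_of_ne le_sup_left fun e => hgM (e ▸ mem_sup_right (mem_zpowers _)))
  have hsup : H.subgroupOf (P : Subgroup C) ⊔ F = ⊤ := by
    rw [eq_top_iff, ← htop]
    exact sup_le (sup_le le_sup_right (zpowers_le.mpr (mem_sup_left huH))) (zpowers_le.mpr (mem_sup_left hgH))
  exact hH.not_ge (subgroupOf_eq_top.mp (frattini_nongenerating hsup))

/-- A conjugate inside the Sylow subgroup of a noncommuting pair `g, a` does not lie in `M`. -/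
theorem conj_not_le_Mc {g : C} (hg : g ∈ (P : Subgroup C)) (hgM : g ∉ T.Mc) {H : Subgroup C} (hgH : g ∈ H)
    (haH : (T.D.a : C) ∈ H) (c : C) : ¬ H.map (MulAut.conj c).toMonoidHom ≤ T.Mc := by
  intro hle
  have h1 : c * g * c⁻¹ ∈ T.Mc := hle ⟨g, hgH, rfl⟩
  have h2 : c * (T.D.a : C) * c⁻¹ ∈ T.Mc := hle ⟨_, haH, rfl⟩
  have h3 : (⟨_, T.Mc_le h2⟩ : (P : Subgroup C)) ∈ T.D.A := by
    refine T.D.mem_A_of_pow (Subtype.ext ?_) ((T.mem_Mc _).mp h2)
    have ha := congrArg Subtype.val T.D.a_pow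
    simp only [coe_pow, coe_one] at ha
    show (c * (T.D.a : C) * c⁻¹) ^ 3 = 1
    rw [conj_pow, ha, mul_one, mul_inv_cancel]
  have h4 := congrArg Subtype.val (T.D.commute_of_mem_A h3 ((T.mem_Mc (T.Mc_le h1)).mp h1)).eq
  simp only [coe_mul] at h4
  refine (fun h => hgM ((T.mem_Mc hg).mpr (T.D.mem_M.mpr (Subtype.ext h)))) ?_
  show g * (T.D.a : C) = (T.D.a : C) * g
  calc g * (T.D.a : C) = c⁻¹ * ((c * g * c⁻¹) * (c * (T.D.a : C) * c⁻¹)) * c := by group
    _ = _ := by rw [← h4]; group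

variable (hzC : (T.D.z : C) ∈ center C)
include hzC

theorem conj_Zc (c : C) {u : C} (hu : u ∈ T.Zc) : c * u * c⁻¹ = u := by
  rw [mem_center_iff.mp (zpowers_le.mpr hzC hu) c, mul_inv_cancel_right]

/-- An element normalising a subgroup of order at least `81` outside `M` normalises its meet with `M`. -/
theorem normalizes_inf {H : Subgroup C} (hH : H ≤ (P : Subgroup C)) (hHM : ¬ H ≤ T.Mc) (hz : (T.D.z : C) ∈ H)
    (h81 : 81 ≤ Nat.card H) {t : C} (ht : t ∈ normalizer (H : Set C)) :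
    t ∈ normalizer ((H ⊓ T.Mc : Subgroup C) : Set C) := by
  refine CfsgLib.Fsys.mem_normalizer_of_map_le fun u hu => ?_
  have htH : ∀ v, v ∈ H ↔ t * v * t⁻¹ ∈ H := fun v => mem_normalizer_iff.mp ht v
  refine ⟨(htH u).mp hu.1, (T.mem_Mc_iff hH hHM hz h81 ((htH u).mp hu.1)).mpr fun v hv hw => ?_⟩
  have hv' : t⁻¹ * v * t ∈ H := (htH _).mpr (by simpa [mul_assoc] using hv)
  have h := (T.mem_Mc_iff hH hHM hz h81 hu.1).mp hu.2 _ hv' fun w hwH => by
    have h1 := hw _ ((htH w).mp hwH)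
    have h2 := T.conj_Zc hzC t⁻¹ h1
    rw [← h2] at h1
    convert h1 using 1
    group
  calc t * u * t⁻¹ * v = t * (u * (t⁻¹ * v * t)) * t⁻¹ := by group
    _ = _ := by rw [h]; group

/-- The tower: an element inverting `g` modulo `M` climbs to the normaliser of the Sylow subgroup. -/
theorem tower {n : ℕ} (hn : Nat.card (P : Subgroup C) = 3 ^ n) {g : C} (hgM : g ∉ T.Mc) :
    ∀ H : Subgroup C, H ≤ (P : Subgroup C) → g ∈ H → (T.D.z : C) ∈ H → 27 ≤ Nat.card H →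
      ∀ t : C, t ∈ normalizer (H : Set C) → t ∈ normalizer ((H ⊓ T.Mc : Subgroup C) : Set C) →
        g * (t * g * t⁻¹) ∈ H ⊓ T.Mc ⊓ Fc (P := P) →
          ∃ t' ∈ normalizer ((P : Subgroup C) : Set C), g * (t' * g * t'⁻¹) ∈ Fc (P := P) := by
  intro H
  induction hk : Nat.card (P : Subgroup C) - Nat.card H using Nat.strong_induction_on generalizing H with
  | _ k ih =>
    subst hk
    intro hH hgH hzH h27 t htH htM hg
    rcases hH.eq_or_lt with rfl | hlt
    · exact ⟨t, htH, hg.2⟩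
    have hHM : ¬ H ≤ T.Mc := fun h => hgM (h hgH)
    set N : Subgroup C := (P : Subgroup C) ⊓ normalizer (H : Set C) with hN
    have hHN : H < N := CfsgLib.Fsys.lt_normalizerIn P.2 hlt
    have hNp : IsPGroup 3 N := P.2.to_le inf_le_left
    have hNcard : Nat.card N = 3 * Nat.card H :=
      le_antisymm (T.card_normalizerIn hH hHM) (CfsgLib.Fusion.MaxClass.card_mul_le_of_lt hNp
        (show H.subgroupOf N < ⊤ from lt_top_iff_ne_top.mpr fun e => hHN.not_ge (subgroupOf_eq_top.mp e)) |>.trans' (by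
          rw [Nat.card_congr (subgroupOfEquivOfLe hHN.le).toEquiv]) |>.trans Subgroup.card_top.le)
    set Hm := H ⊓ T.Mc with hHm
    set X := normalizer (H : Set C) ⊓ normalizer (Hm : Set C) with hX
    have hconjH : ∀ k ∈ X, ∀ h ∈ H, k * h * k⁻¹ ∈ H := fun k hk h hh => (mem_normalizer_iff.mp hk.1 h).mp hh
    have hconjM : ∀ k ∈ X, ∀ h ∈ Hm, k * h * k⁻¹ ∈ Hm := fun k hk h hh => (mem_normalizer_iff.mp hk.2 h).mp hh
    let R : Subgroup C :=
      { carrier := {k | k ∈ X ∧ ∀ h ∈ H, h⁻¹ * (k * h * k⁻¹) ∈ Hm}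
        one_mem' := ⟨one_mem X, fun h _ => by simp⟩
        mul_mem' := fun {k l} hk hl => ⟨mul_mem hk.1 hl.1, fun h hh => by
          rw [show h⁻¹ * (k * l * h * (k * l)⁻¹) = h⁻¹ * (k * h * k⁻¹) * (k * (h⁻¹ * (l * h * l⁻¹)) * k⁻¹) by group]
          exact mul_mem (hk.2 h hh) (hconjM k hk.1 _ (hl.2 h hh))⟩
        inv_mem' := fun {k} hk => ⟨inv_mem hk.1, fun h hh => by
          have h' := hconjH k⁻¹ (inv_mem hk.1) h hh
          have h2 := inv_mem (hk.2 _ h')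
          convert h2 using 1
          group⟩ }
    have hRX : R ≤ X := fun k hk => hk.1
    have hXR : X ≤ normalizer (R : Set C) := fun y hy => CfsgLib.Fsys.mem_normalizer_of_map_le fun k hk =>
      ⟨mul_mem (mul_mem hy hk.1) (inv_mem hy), fun h hh => by
        have h2 := hconjM y hy _ (hk.2 _ (hconjH y⁻¹ (inv_mem hy) h hh))
        convert h2 using 1
        group⟩
    have hNR : N ≤ R := fun u hu => by
      haveI hMn := T.D.M_normal
      have hM : ∀ v ∈ T.Mc, u * v * u⁻¹ ∈ T.Mc := by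
        rintro _ ⟨v, hv, rfl⟩
        exact ⟨⟨u, hu.1⟩ * v * ⟨u, hu.1⟩⁻¹, hMn.conj_mem v hv _, rfl⟩
      refine ⟨⟨hu.2, CfsgLib.Fsys.mem_normalizer_of_map_le fun v hv =>
        ⟨(mem_normalizer_iff.mp hu.2 v).mp hv.1, hM v hv.2⟩⟩, fun h hh => ⟨H.mul_mem (H.inv_mem hh)
          ((mem_normalizer_iff.mp hu.2 h).mp hh), ?_⟩⟩
      refine ⟨(⟨h, hH hh⟩ : (P : Subgroup C))⁻¹ * (⟨u, hu.1⟩ * ⟨h, hH hh⟩ * ⟨u, hu.1⟩⁻¹), ?_, rfl⟩
      apply T.frattini_le_M
      have hc := CfsgLib.PGroup.Frattini.commutatorElement_mem_frattini P.2 (⟨h, hH hh⟩ : (P : Subgroup C))⁻¹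
        (⟨u, hu.1⟩ : (P : Subgroup C))
      rw [commutatorElement_def, inv_inv] at hc
      simpa [mul_assoc] using hc
    have hNS : IsSylowIn 3 N R := by
      refine ⟨hNR, hNp, fun U hU hUp hle => (eq_of_le_of_card_ge hle ?_).symm⟩
      obtain ⟨Q, hQ⟩ := hUp.exists_le_sylow
      obtain ⟨c, hc⟩ := MulAction.exists_smul_eq C Q P
      have hUc : U.map (MulAut.conj c).toMonoidHom ≤ (P : Subgroup C) := hc ▸ map_mono hQ
      have hHc : H.map (MulAut.conj c).toMonoidHom ≤ U.map (MulAut.conj c).toMonoidHom :=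
        map_mono (hHN.le.trans hle)
      have haH : (T.D.a : C) ∈ H := by
        have h := T.A_le_of_card P.2 (H := H.subgroupOf (P : Subgroup C))
          (fun h => hgM ((T.mem_Mc (hH hgH)).mpr (h (show (⟨g, hH hgH⟩ : (P : Subgroup C)) ∈ H.subgroupOf _ from hgH))))
          hzH (by rwa [Nat.card_congr (subgroupOfEquivOfLe hH).toEquiv])
        exact h T.D.a_mem_A
      have h1 := T.card_normalizerIn (hHc.trans hUc) (T.conj_not_le_Mc (hH hgH) hgM hgH haH c)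
      have hinj := (MulAut.conj c).injective
      rw [card_map_of_injective (f := (MulAut.conj c).toMonoidHom) hinj] at h1
      rw [hNcard, ← card_map_of_injective (K := U) (f := (MulAut.conj c).toMonoidHom) hinj]
      refine le_trans (card_le_of_le (le_inf hUc ?_)) h1
      rintro _ ⟨u, hu, rfl⟩
      rw [CfsgLib.LocalEven.SylowIn.normalizer_map_conj]
      exact ⟨u, (hRX (hU hu)).1, rfl⟩
    obtain ⟨r, hr, t', ht', he⟩ := frattini_argument hNS hXR hRX (g := t) ⟨htH, htM⟩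
    have hgN : g ∈ N := hHN.le hgH
    have hzN : (T.D.z : C) ∈ N := hHN.le hzH
    have hNM : ¬ N ≤ T.Mc := fun h => hgM (h hgN)
    have h81 : 81 ≤ Nat.card N := by rw [hNcard]; omega
    refine ih _ ?_ N rfl inf_le_left hgN hzN (by omega) t' ht'.2
      (T.normalizes_inf hzC inf_le_left hNM hzN h81 ht'.2) ?_
    · have := card_le_of_le (show N ≤ (P : Subgroup C) from inf_le_left)
      have := Nat.card_pos (α := H)
      omega
    -- the new element still inverts `g` modulo `M`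
    have hrm := hconjM r⁻¹ (inv_mem hr.1) _ ⟨hg.1.1, hg.1.2⟩
    have hrg := (inv_mem hr : r⁻¹ ∈ R).2 g⁻¹ (inv_mem hgH)
    have hval : g * (t' * g * t'⁻¹) =
        ((g⁻¹)⁻¹ * (r⁻¹ * g⁻¹ * r⁻¹⁻¹)) * (r⁻¹ * (g * (t * g * t⁻¹)) * r⁻¹⁻¹) := by
      rw [he]; group
    have hmem : g * (t' * g * t'⁻¹) ∈ Hm := hval ▸ mul_mem hrg hrm
    exact ⟨⟨hHN.le hmem.1, hmem.2⟩, T.inf_Mc_le hn hlt hHM hmem⟩

end CfsgLib.LocalEvenB.IsolatedSylow.Thin
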