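import Mathlib
import Cfsg.Agent.Lib.LocalEvenB.IsolatedSylow.ThinLift
import Cfsg.Agent.Lib.LocalEvenB.OrderPCubed
import Cfsg.Agent.Lib.FusionSystem.SmallEssential
import Cfsg.Agent.Lib.FusionSystem.MetacyclicNormal
import Cfsg.Agent.Lib.FusionSystem.Generation
import Cfsg.Agent.Lib.LocalEvenB.IsolatedSylow.Families

/-!
The essential subgroups over a thin Sylow `3`-subgroup with central `z`: only extraspecial pearls.
-/

set_option autoImplicit false
set_option linter.style.haveILetI false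

open Subgroup Cfsg Cfsg.FusionSystem
open scoped commutatorElement

namespace CfsgLib.LocalEvenB.IsolatedSylow.Thin

variable {C : Type*} [Group C] [Finite C] {P : Sylow 3 C} (T : Thin ↥(P : Subgroup C))

/-- An essential subgroup with two generators has no invariant line. -/
theorem false_of_conj_line {E : Subgroup C} (hE : (groupFusionSystem (P : Subgroup C)).IsEssential 3 E)
    (hrk : (frattini ↥E).index ≤ 3 ^ 2) (L : Subgroup E)
    (hinv : ∀ c (hc : c ∈ normalizer (E : Set C)), ∀ v ∈ L, Fsys.conjAut E hc v ∈ L)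
    (hne : L ≠ ⊤) (hidx : L.index ≤ 3) : False := by
  refine Fsys.SmallEssential.false_of_line P.2 (Fsys.group_isSaturated P) hE hrk L (fun α hα v hv => ?_) hne
    fun hle => ?_
  · rw [Fsys.group_autGroup hE.1.1] at hα
    obtain ⟨c, -, hc⟩ := Fsys.mem_autInducedBy.mp hα
    have hcN : c ∈ normalizer (E : Set C) :=
      Fsys.mem_normalizer_of_map_le fun u hu => (hc ⟨u, hu⟩) ▸ (α ⟨u, hu⟩).2
    have : α v = Fsys.conjAut E hcN v := Subtype.ext (by rw [hc v, Fsys.conjAut_coe])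
    rw [this]; exact hinv c hcN v hv
  · have h9 := Fsys.SmallEssential.frattini_index P.2 (Fsys.group_isSaturated P) hE
    have := Nat.le_of_dvd (Nat.pos_of_ne_zero Subgroup.index_ne_zero_of_finite) (Subgroup.index_dvd_of_le hle)
    omega

theorem z_pow_c : (T.D.z : C) ^ 3 = 1 := by
  have := congrArg Subtype.val T.z_pow
  simpa using this

theorem card_Zc : Nat.card T.Zc = 3 := by
  rw [Zc, Nat.card_zpowers, Subgroup.orderOf_coe, T.D.z_ord]

theorem card_Ac : Nat.card T.Ac = 9 := by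
  rw [Ac, card_map_of_injective (f := (P : Subgroup C).subtype) (P : Subgroup C).subtype_injective, T.D.card_A]
  norm_num

theorem coe_mem_Zc {v : (P : Subgroup C)} (hv : v ∈ zpowers T.D.z) : (v : C) ∈ T.Zc :=
  (T.mem_Zc v.2).mpr hv

variable (hzC : (T.D.z : C) ∈ center C)
include hzC

theorem z_mem_essential {E : Subgroup C} (hE : (groupFusionSystem (P : Subgroup C)).IsEssential 3 E) :
    (T.D.z : C) ∈ E :=
  Fsys.centralizer_le_of_centric hE.1
    ⟨SetLike.coe_mem _, mem_centralizer_iff.mpr fun u _ => mem_center_iff.mp hzC u⟩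

theorem conjAut_Zc {E : Subgroup C} {c : C} (hc : c ∈ normalizer (E : Set C)) {v : E} (hv : (v : C) ∈ T.Zc) :
    (Fsys.conjAut E hc v : C) ∈ T.Zc := by
  rw [Fsys.conjAut_coe, T.conj_Zc hzC c hv]; exact hv

/-- Cubing is multiplicative on a subgroup with commutators in `⟨z⟩`. -/
theorem mul_pow_three {E : Subgroup C} (hcl : ∀ u ∈ E, ∀ v ∈ E, ⁅u, v⁆ ∈ T.Zc) {u v : C} (hu : u ∈ E)
    (hv : v ∈ E) : (u * v) ^ 3 = u ^ 3 * v ^ 3 := by
  have hc : (⁅(⟨v, hv⟩ : E), (⟨u, hu⟩ : E)⁆) ∈ center E :=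
    mem_center_iff.mpr fun w => Subtype.ext (mem_center_iff.mp (zpowers_le.mpr hzC (hcl v hv u hu)) (w : C))
  have h := congrArg Subtype.val (OrderPCubed.mul_pow_of_central (⟨u, hu⟩ : E) ⟨v, hv⟩ hc 3)
  simp only [coe_pow, coe_mul] at h
  rw [h, show ((⁅(⟨v, hv⟩ : E), (⟨u, hu⟩ : E)⁆ : E) : C) = ⁅v, u⁆ from map_commutatorElement E.subtype _ _]
  obtain ⟨i, hi⟩ := Subgroup.mem_zpowers_iff.mp (hcl v hv u hu)
  rw [← hi, show Nat.choose 3 2 = 3 from rfl, zpow_pow_eq_one T.z_pow_c, mul_one]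

/-- No essential subgroup lies in `M`. -/
theorem not_le_Mc {E : Subgroup C} (hE : (groupFusionSystem (P : Subgroup C)).IsEssential 3 E) : ¬ E ≤ T.Mc := by
  classical
  intro hEM
  have hAE : T.Ac ≤ E := fun u hu => Fsys.centralizer_le_of_centric hE.1
    ⟨T.Mc_le (T.Ac_le_Mc hu), mem_centralizer_iff.mpr fun v hv =>
      (congrArg Subtype.val (T.D.commute_of_mem_A ((T.mem_Ac (T.Mc_le (T.Ac_le_Mc hu))).mp hu)
        ((T.mem_Mc (T.Mc_le (hEM hv))).mp (hEM hv))).eq).symm⟩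
  have hcl : ∀ u ∈ E, ∀ v ∈ E, ⁅u, v⁆ ∈ T.Zc := fun u hu v hv => by
    have h := T.comm_M P.2 ((T.mem_Mc (T.Mc_le (hEM hu))).mp (hEM hu)) ((T.mem_Mc (T.Mc_le (hEM hv))).mp (hEM hv))
    have h' := T.coe_mem_Zc h
    rwa [show ((⁅(⟨u, T.Mc_le (hEM hu)⟩ : (P : Subgroup C)), ⟨v, T.Mc_le (hEM hv)⟩⁆ : (P : Subgroup C)) : C) = ⁅u, v⁆
      from map_commutatorElement (P : Subgroup C).subtype _ _] at h'
  have hA3 : ∀ u ∈ E, u ^ 3 = 1 → u ∈ T.Ac := fun u hu h => (T.mem_Ac (T.Mc_le (hEM hu))).mpr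
    (T.D.mem_A_of_pow (Subtype.ext (by simpa using h)) ((T.mem_Mc _).mp (hEM hu)))
  have hEp : IsPGroup 3 E := P.2.to_le hE.1.1
  -- two generators
  have hrk : (frattini ↥E).index ≤ 3 ^ 2 := by
    let f : E →* E := MonoidHom.mk' (fun u => u ^ 3) fun u v => Subtype.ext (by
      simpa using T.mul_pow_three hzC hcl u.2 v.2)
    have h1 : Nat.card f.range * Nat.card f.ker = Nat.card E := by
      rw [← Subgroup.index_ker, mul_comm, Subgroup.card_mul_index]
    have h2 : Nat.card f.range ≤ Nat.card (frattini ↥E) := card_le_of_le (by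
      rintro _ ⟨u, rfl⟩; exact CfsgLib.PGroup.Frattini.pow_mem_frattini hEp u)
    have h3 : Nat.card f.ker ≤ 9 := by
      rw [← card_map_of_injective (f := E.subtype) E.subtype_injective, ← T.card_Ac]
      refine card_le_of_le ?_
      rintro _ ⟨u, hu, rfl⟩
      exact hA3 u u.2 (congrArg Subtype.val (MonoidHom.mem_ker.mp hu) : ((u : C)) ^ 3 = 1)
    refine Nat.le_of_mul_le_mul_left ?_ (Nat.card_pos (α := frattini ↥E))
    rw [Subgroup.card_mul_index, ← h1]
    calc _ ≤ Nat.card (frattini ↥E) * 9 := Nat.mul_le_mul h2 h3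
      _ = _ := by norm_num
  -- the last power map
  have hex : ∃ e : ℕ, ∀ u ∈ E, u ^ 3 ^ (e + 1) = 1 := by
    obtain ⟨k, hk⟩ := IsPGroup.iff_card.mp hEp
    refine ⟨k, fun u hu => orderOf_dvd_iff_pow_eq_one.mp ?_⟩
    exact ((Subgroup.orderOf_dvd_natCard E hu).trans (dvd_of_eq hk)).trans (pow_dvd_pow 3 (Nat.le_succ k))
  set e := Nat.find hex with he
  have hspec := Nat.find_spec hex
  obtain ⟨u₁, hu₁, hu₁ne⟩ : ∃ u ∈ E, u ^ 3 ^ e ≠ 1 := by
    by_cases h0 : e = 0
    · refine ⟨T.D.z, hAE (T.Zc_le_Ac (mem_zpowers _)), ?_⟩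
      rw [h0, pow_zero, pow_one]
      intro h
      have := T.D.z_ord
      rw [← Subgroup.orderOf_coe, h, orderOf_one] at this
      omega
    · have hmin := Nat.find_min hex (m := e - 1) (by omega)
      push Not at hmin
      rwa [show e - 1 + 1 = e by omega] at hmin
  have hmul : ∀ k : ℕ, ∀ u ∈ E, ∀ v ∈ E, (u * v) ^ 3 ^ k = u ^ 3 ^ k * v ^ 3 ^ k := by
    intro k
    induction k with
    | zero => simp
    | succ k ih =>
      intro u hu v hv
      rw [pow_succ, pow_mul, pow_mul, pow_mul, ih u hu v hv, T.mul_pow_three hzC hcl (pow_mem hu _) (pow_mem hv _)]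
  let f : E →* C := MonoidHom.mk' (fun u => (u : C) ^ 3 ^ e) fun u v => by
    simpa using hmul e _ u.2 _ v.2
  have hfA : f.range ≤ T.Ac := by
    rintro _ ⟨u, rfl⟩
    refine hA3 _ (pow_mem u.2 _) ?_
    show ((u : C) ^ 3 ^ e) ^ 3 = 1
    rw [← pow_mul, ← pow_succ]; exact hspec u u.2
  have hconj : ∀ c (hc : c ∈ normalizer (E : Set C)) (v : E), f (Fsys.conjAut E hc v) = c * f v * c⁻¹ := by
    intro c hc v
    show (Fsys.conjAut E hc v : C) ^ 3 ^ e = c * (v : C) ^ 3 ^ e * c⁻¹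
    rw [Fsys.conjAut_coe, conj_pow]
  by_cases hin : f.range ≤ T.Zc
  · refine false_of_conj_line hE hrk f.ker (fun c hc v hv => ?_) (fun h => ?_) ?_
    · rw [MonoidHom.mem_ker, hconj, MonoidHom.mem_ker.mp hv, mul_one, mul_inv_cancel]
    · exact hu₁ne (MonoidHom.mem_ker.mp (h ▸ mem_top (⟨u₁, hu₁⟩ : E)))
    · rw [Subgroup.index_ker, ← T.card_Zc]; exact card_le_of_le hin
  · refine false_of_conj_line hE hrk (T.Zc.comap f) (fun c hc v hv => ?_) (fun h => hin ?_) ?_
    · show f _ ∈ T.Zc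
      rw [hconj, T.conj_Zc hzC c hv]; exact hv
    · rintro _ ⟨v, rfl⟩
      exact (h ▸ mem_top v : v ∈ T.Zc.comap f)
    · rw [Subgroup.index_comap]
      refine le_of_le_of_eq (Subgroup.relIndex_le_of_le_right hfA (Subgroup.index_ne_zero_of_finite (H := T.Zc.subgroupOf T.Ac))) ?_
      have := Subgroup.card_mul_index (T.Zc.subgroupOf T.Ac)
      rw [Nat.card_congr (subgroupOfEquivOfLe T.Zc_le_Ac).toEquiv, T.card_Zc, T.card_Ac] at this
      show (T.Zc.subgroupOf T.Ac).index = 3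
      omega

/-- An essential subgroup is a pearl with an element inverting it modulo the centre. -/
theorem pearl (hn4 : 81 ≤ Nat.card (P : Subgroup C)) {E : Subgroup C}
    (hE : (groupFusionSystem (P : Subgroup C)).IsEssential 3 E) :
    ∃ g ∈ E, g ∉ T.Mc ∧ E ≤ zpowers g ⊔ T.Ac ∧ Nat.card E = 27 ∧ E ⊓ T.Mc = T.Ac ∧
      ∃ t ∈ normalizer (E : Set C), t ∈ normalizer (T.Ac : Set C) ∧ g * (t * g * t⁻¹) ∈ T.Zc := by
  have hEP : E ≤ (P : Subgroup C) := hE.1.1
  have hEp : IsPGroup 3 E := P.2.to_le hEP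
  have hzE := T.z_mem_essential hzC hE
  have hEM := T.not_le_Mc hzC hE
  obtain ⟨g, hgE, hgM⟩ := SetLike.not_le_iff_exists.mp hEM
  have hHm := T.card_Mc hEP hEM
  have hgP : (⟨g, hEP hgE⟩ : (P : Subgroup C)) ∉ T.D.M := fun h => hgM ((T.mem_Mc _).mpr h)
  obtain ⟨k, hk⟩ := IsPGroup.iff_card.mp hEp
  have hk2 : 2 ≤ k := by
    by_contra h
    have h1 := card_le_of_le (show T.Zc ≤ E ⊓ T.Mc from
      le_inf (zpowers_le.mpr hzE) (T.Zc_le_Ac.trans T.Ac_le_Mc))
    rw [T.card_Zc] at h1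
    have := Nat.pow_le_pow_right (show 3 > 0 by norm_num) (show k ≤ 1 by omega)
    omega
  have hΦ : ∀ u v : E, ⁅u, v⁆ ∈ frattini ↥E := CfsgLib.PGroup.Frattini.commutatorElement_mem_frattini hEp
  rcases hk2.eq_or_lt with h2 | h3
  · -- order nine
    exfalso
    rw [← h2] at hk
    refine false_of_conj_line hE ?_ (T.Zc.subgroupOf E) (fun c hc v hv => T.conjAut_Zc hzC hc hv) (fun h => ?_) ?_
    · rw [← hk]
      exact Nat.le_of_dvd Nat.card_pos (Subgroup.index_dvd_card _)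
    · have := card_le_of_le (subgroupOf_eq_top.mp h)
      rw [T.card_Zc, hk] at this
      norm_num at this
    · have := Subgroup.card_mul_index (T.Zc.subgroupOf E)
      have hZE : T.Zc ≤ E := zpowers_le.mpr hzE
      rw [Nat.card_congr (subgroupOfEquivOfLe hZE).toEquiv, T.card_Zc, hk] at this
      omega
  have hk27 : 27 ≤ Nat.card E := by
    rw [hk]
    exact Nat.pow_le_pow_right (show 3 > 0 by norm_num) h3
  have hAE : T.Ac ≤ E := by
    have h := T.A_le_of_card P.2 (H := E.subgroupOf (P : Subgroup C)) (fun h => hgP (h hgE)) hzE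
      (by rwa [Nat.card_congr (subgroupOfEquivOfLe hEP).toEquiv])
    rintro _ ⟨v, hv, rfl⟩
    exact h hv
  rcases (Nat.succ_le_of_lt h3).eq_or_lt with h3' | h4
  · have h27 : Nat.card E = 27 := by rw [hk, ← h3']; rfl
    have hinf : E ⊓ T.Mc = T.Ac :=
      (eq_of_le_of_card_ge (le_inf hAE T.Ac_le_Mc) (by rw [T.card_Ac]; omega)).symm
    have hsup : E ≤ zpowers g ⊔ T.Ac := by
      have hle : zpowers g ⊔ T.Ac ≤ E := sup_le (zpowers_le.mpr hgE) hAE
      have hlt : T.Ac < zpowers g ⊔ T.Ac :=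
        lt_of_le_of_ne le_sup_right fun e => hgM (T.Ac_le_Mc (e ▸ mem_sup_left (mem_zpowers g)))
      have := CfsgLib.Fusion.MaxClass.card_mul_le_of_lt P.2
        (show T.Ac.subgroupOf (P : Subgroup C) < (zpowers g ⊔ T.Ac).subgroupOf (P : Subgroup C) from
          ⟨fun u hu => hlt.le hu, fun h => hlt.not_ge fun u hu => h (show (⟨u, hEP (hle hu)⟩ : (P : Subgroup C)) ∈ _ from hu)⟩)
      rw [Nat.card_congr (subgroupOfEquivOfLe (T.Ac_le_Mc.trans T.Mc_le)).toEquiv, T.card_Ac,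
        Nat.card_congr (subgroupOfEquivOfLe (hle.trans hEP)).toEquiv] at this
      exact (eq_of_le_of_card_ge hle (by omega)).ge
    set Z' : Subgroup E := T.Zc.subgroupOf E with hZ'
    haveI hZn : Z'.Normal := ⟨fun v hv u => by
      show ((u : C) * v * (u : C)⁻¹) ∈ T.Zc
      rw [T.conj_Zc hzC (u : C) (u := (v : C)) hv]; exact hv⟩
    have hVcard : Nat.card (E ⧸ Z') = 3 ^ 2 := by
      have := Subgroup.card_mul_index Z'
      have hZE : T.Zc ≤ E := zpowers_le.mpr hzE
      rw [Nat.card_congr (subgroupOfEquivOfLe hZE).toEquiv, T.card_Zc, h27,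
        Subgroup.index_eq_card] at this
      omega
    have hVab := IsPGroup.isMulCommutative_of_card_eq_prime_sq hVcard
    have hcl : ∀ u ∈ E, ∀ v ∈ E, ⁅u, v⁆ ∈ T.Zc := fun u hu v hv => by
      have hmap := map_commutatorElement (QuotientGroup.mk' Z') (⟨u, hu⟩ : E) ⟨v, hv⟩
      rw [commutatorElement_eq_one_iff_mul_comm.mpr (hVab.1.1 _ _)] at hmap
      have h := (QuotientGroup.eq_one_iff _).mp hmap
      rwa [hZ', Subgroup.mem_subgroupOf, show ((⁅(⟨u, hu⟩ : E), (⟨v, hv⟩ : E)⁆ : E) : C) = ⁅u, v⁆ from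
        map_commutatorElement E.subtype _ _] at h
    have ha : (T.D.a : C) ∈ E := hAE ⟨_, T.D.a_mem_A, rfl⟩
    have hrk : (frattini ↥E).index ≤ 3 ^ 2 := by
      have hne : (⁅(⟨g, hgE⟩ : E), (⟨T.D.a, ha⟩ : E)⁆) ≠ 1 := fun h => by
        have h' := congrArg Subtype.val (commutatorElement_eq_one_iff_mul_comm.mp h)
        exact hgP (T.D.mem_M.mpr (Subtype.ext h'))
      have h1 : 3 ≤ Nat.card (frattini ↥E) := by
        obtain ⟨j, hj⟩ := IsPGroup.iff_card.mp (hEp.to_subgroup (frattini ↥E))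
        have : j ≠ 0 := fun e => hne (Subgroup.mem_bot.mp
          (Subgroup.card_eq_one.mp (by rw [hj, e, pow_zero]) ▸ hΦ _ _))
        rw [hj]; exact Nat.le_self_pow this 3
      have h2 := Subgroup.card_mul_index (frattini ↥E)
      rw [h27] at h2
      nlinarith
    -- cubes are trivial
    have hcube : ∀ u ∈ E, u ^ 3 = 1 := by
      intro u hu
      by_contra hu3
      let f : E →* C := MonoidHom.mk' (fun w => (w : C) ^ 3) fun w w' => by
        simpa using T.mul_pow_three hzC hcl w.2 w'.2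
      have hr : f.range ≤ T.Zc := by
        rintro _ ⟨⟨w, hw⟩, rfl⟩
        show w ^ 3 ∈ T.Zc
        set w' : (P : Subgroup C) := ⟨w, hEP hw⟩
        have hwM : w' ^ 3 ∈ T.D.M := T.D.pow_mem_M P.2 w'
        have hw3A : w ^ 3 ∈ T.Ac := hinf.le ⟨pow_mem hw 3, ⟨w' ^ 3, hwM, rfl⟩⟩
        rw [T.mem_Zc (pow_mem (hEP hw) 3)]
        by_cases hwM' : w' ∈ T.D.M
        · have : w' ∈ T.D.A := (T.mem_Ac (hEP hw)).mp (hinf.le ⟨hw, ⟨w', hwM', rfl⟩⟩)
          rw [show (⟨w ^ 3, pow_mem (hEP hw) 3⟩ : (P : Subgroup C)) = w' ^ 3 from rfl, T.D.pow_of_mem_A this]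
          exact one_mem _
        · refine T.D.mem_zpowers_of_fixed hwM' ((T.mem_Ac _).mp hw3A) (Subtype.ext ?_)
          show w * w ^ 3 * w⁻¹ = w ^ 3
          group
      refine false_of_conj_line hE hrk f.ker (fun c hc v hv => ?_) (fun h => hu3 ?_) ?_
      · show (Fsys.conjAut E hc v : C) ^ 3 = 1
        have hv' : (v : C) ^ 3 = 1 := hv
        rw [Fsys.conjAut_coe, conj_pow, hv', mul_one, mul_inv_cancel]
      · exact MonoidHom.mem_ker.mp (h ▸ mem_top (⟨u, hu⟩ : E))
      · rw [Subgroup.index_ker, ← T.card_Zc]; exact card_le_of_le hr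
    -- an element moving `A`
    obtain ⟨c₀, hc₀, hmove⟩ : ∃ c ∈ normalizer (E : Set C), c * (T.D.a : C) * c⁻¹ ∉ T.Ac := by
      by_contra hall
      push Not at hall
      refine false_of_conj_line hE hrk (T.Ac.subgroupOf E) (fun c hc v hv => ?_) (fun h => ?_) ?_
      · show (Fsys.conjAut E hc v : C) ∈ T.Ac
        rw [Fsys.conjAut_coe]
        obtain ⟨w, hw, hwv⟩ := (hv : (v : C) ∈ T.Ac)
        obtain ⟨i, j, rfl⟩ := T.D.exists_rep hw
        rw [show (v : C) = _ from hwv.symm]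
        simp only [Subgroup.coe_subtype, coe_mul, coe_zpow]
        rw [show c * ((T.D.z : C) ^ i * (T.D.a : C) ^ j) * c⁻¹ =
            c * (T.D.z : C) ^ i * c⁻¹ * (c * (T.D.a : C) * c⁻¹) ^ j by rw [conj_zpow]; group,
          T.conj_Zc hzC c (zpow_mem (mem_zpowers _) i)]
        exact mul_mem (T.Zc_le_Ac (zpow_mem (mem_zpowers _) i)) (zpow_mem (hall c hc) j)
      · exact hgM (T.Ac_le_Mc (subgroupOf_eq_top.mp h hgE))
      · have := Subgroup.card_mul_index (T.Ac.subgroupOf E)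
        rw [Nat.card_congr (subgroupOfEquivOfLe hAE).toEquiv, T.card_Ac, h27] at this
        omega
    -- the action on `E` modulo the centre
    haveI : Finite (E ⧸ Z') := inferInstance
    let ψ : normalizer (E : Set C) →* MulAut (E ⧸ Z') := MonoidHom.mk' (fun c =>
      QuotientGroup.congr Z' Z' (Fsys.conjAut E c.2) (by
        ext v
        constructor
        · rintro ⟨w, hw, rfl⟩
          exact T.conjAut_Zc hzC c.2 hw
        · intro hv
          refine ⟨v, hv, Subtype.ext ?_⟩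
          show (c : C) * (v : C) * (c : C)⁻¹ = v
          exact T.conj_Zc hzC (c : C) hv)) fun c d => MulEquiv.ext fun q => by
        obtain ⟨v, rfl⟩ := QuotientGroup.mk_surjective q
        show ((Fsys.conjAut E (c * d).2 v : E) : E ⧸ Z') = (Fsys.conjAut E c.2 (Fsys.conjAut E d.2 v) : E)
        congr 1
        exact Subtype.ext (by simp [mul_assoc])
    have hψ : ∀ (c : normalizer (E : Set C)) (v : E), ψ c (v : E ⧸ Z') = ((Fsys.conjAut E c.2 v : E) : E ⧸ Z') :=
      fun _ _ => rfl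
    -- an element of the normaliser in `P` outside `E`
    have hlt : E < (P : Subgroup C) := lt_of_le_of_ne hEP fun e => by rw [← e, h27] at hn4; omega
    have hEN : E ≤ ((P : Subgroup C) ⊓ normalizer (E : Set C)) := le_inf hEP le_normalizer
    obtain ⟨n, hn, hnE⟩ := SetLike.exists_of_lt (Fsys.lt_normalizerIn P.2 hlt)
    let nn : normalizer (E : Set C) := ⟨n, hn.2⟩
    let bb : normalizer (E : Set C) := ⟨c₀ * n * c₀⁻¹, mul_mem (mul_mem hc₀ hn.2) (inv_mem hc₀)⟩
    set ā : E ⧸ Z' := ((⟨T.D.a, ha⟩ : E) : E ⧸ Z') with hā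
    have hfixa : ψ nn ā = ā := by
      rw [hā, hψ]
      refine (QuotientGroup.eq.mpr ?_).symm
      show ((T.D.a : C))⁻¹ * (n * (T.D.a : C) * n⁻¹) ∈ T.Zc
      have h := T.D.delta_mem (⟨n, hn.1⟩ : (P : Subgroup C)) T.D.a_mem_A
      have h' := T.coe_mem_Zc h
      have h2 := T.conj_Zc hzC ((T.D.a : C))⁻¹ h'
      rw [← h2] at h'
      convert h' using 1
      simp only [coe_mul, coe_inv]
      group
    have hn3 : ψ nn ^ 3 = 1 := by
      set N : Subgroup C := (P : Subgroup C) ⊓ normalizer (E : Set C)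
      have hN1 : Nat.card N = 3 * Nat.card E :=
        le_antisymm (T.card_normalizerIn hEP hEM) (by
          have h := CfsgLib.Fusion.MaxClass.card_mul_le_of_lt (P.2.to_le (inf_le_left : N ≤ _))
            (show E.subgroupOf N < ⊤ from lt_top_iff_ne_top.mpr fun e =>
              (Fsys.lt_normalizerIn P.2 hlt).not_ge (subgroupOf_eq_top.mp e))
          rwa [Subgroup.card_top, Nat.card_congr (subgroupOfEquivOfLe hEN).toEquiv] at h)
      haveI : (E.subgroupOf N).Normal := ⟨fun v hv u => (mem_normalizer_iff.mp u.2.2 _).mp hv⟩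
      have hidx : (E.subgroupOf N).index = 3 := by
        have h1 := Subgroup.card_mul_index (E.subgroupOf N)
        rw [Nat.card_congr (subgroupOfEquivOfLe hEN).toEquiv, hN1, h27] at h1
        omega
      have hmem := (E.subgroupOf N).pow_index_mem ⟨n, hn⟩
      rw [hidx] at hmem
      rw [← map_pow]
      refine MulEquiv.ext fun q => ?_
      obtain ⟨v, rfl⟩ := QuotientGroup.mk_surjective q
      rw [hψ]
      refine (QuotientGroup.eq.mpr ?_).symm
      show (v : C)⁻¹ * (((nn ^ 3 : normalizer (E : Set C)) : C) * v * ((nn ^ 3 : normalizer (E : Set C)) : C)⁻¹) ∈ T.Zc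
      have h := hcl (v : C)⁻¹ (inv_mem v.2) (n ^ 3) hmem
      rw [commutatorElement_def, inv_inv] at h
      simp only [coe_pow, nn]
      convert h using 1
      group
    have hn1 : ψ nn ≠ 1 := by
      intro h
      have h1 : ((⟨g, hgE⟩ : E) : E ⧸ Z') = ψ nn ((⟨g, hgE⟩ : E) : E ⧸ Z') := by rw [h]; rfl
      rw [hψ] at h1
      have hζ0 := QuotientGroup.eq.mp h1
      have hζ : g⁻¹ * (n * g * n⁻¹) ∈ T.Zc := hζ0
      have hδ := T.coe_mem_Zc
        (T.D.delta_mem (⟨g, hEP hgE⟩ : (P : Subgroup C)) T.D.a_mem_A)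
      simp only [coe_mul, coe_inv] at hδ
      set d := g * (T.D.a : C) * g⁻¹ * (T.D.a : C)⁻¹ with hd
      have hd1 : d ≠ 1 := fun hd' => hgP (T.D.mem_M.mpr (Subtype.ext (mul_inv_eq_iff_eq_mul.mp (mul_inv_eq_one.mp hd'))))
      have hgen : zpowers d = T.Zc := CfsgLib.PGroup.RankTwoOdd.zpowers_eq_of_mem (p := 3)
        (by rw [Subgroup.orderOf_coe]; exact T.D.z_ord) hδ hd1
      have hζ' : g * n * g⁻¹ * n⁻¹ ∈ T.Zc := by
        have h' := T.conj_Zc hzC g hζ
        rw [← h'] at hζ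
        have h'' := inv_mem hζ
        convert h'' using 1
        group
      rw [← hgen] at hζ'
      obtain ⟨j, hj⟩ := Subgroup.mem_zpowers_iff.mp hζ'
      set n' := n * (T.D.a : C) ^ (-j) with hn'
      have hcd : ∀ w : C, d * w = w * d := fun w => (mem_center_iff.mp (zpowers_le.mpr hzC hδ) w).symm
      have hfixn : g * n' * g⁻¹ = n' := by
        have e1 : g * (T.D.a : C) * g⁻¹ = d * (T.D.a : C) := by rw [hd]; group
        have e2 : g * n * g⁻¹ = d ^ j * n := by rw [hj]; group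
        calc g * n' * g⁻¹ = (g * n * g⁻¹) * (g * (T.D.a : C) * g⁻¹) ^ (-j) := by rw [conj_zpow, hn']; group
          _ = d ^ j * n * (d ^ (-j) * (T.D.a : C) ^ (-j)) := by
              rw [e2, e1, (show Commute d (T.D.a : C) from hcd _).mul_zpow]
          _ = n' := by
              rw [hn', mul_assoc (d ^ j), ← mul_assoc n,
                ((show Commute d n from hcd n).zpow_left (-j)).symm.eq]
              group
      have hn'E : n' ∉ E := fun h => hnE (by
        have := E.mul_mem h (E.zpow_mem ha j)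
        rw [hn', mul_assoc, ← zpow_add, neg_add_cancel, zpow_zero, mul_one] at this
        exact this)
      have hn'P : n' ∈ (P : Subgroup C) := mul_mem hn.1 (zpow_mem (SetLike.coe_mem _) _)
      apply hn'E
      haveI := T.D.M_normal
      have hq : Nat.card ((P : Subgroup C) ⧸ T.D.M) = 3 := by rw [← Subgroup.index_eq_card, T.idx]
      have htop : zpowers ((⟨g, hEP hgE⟩ : (P : Subgroup C)) : (P : Subgroup C) ⧸ T.D.M) = ⊤ :=
        zpowers_eq_top_of_prime_card hq fun h => hgP ((QuotientGroup.eq_one_iff _).mp h)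
      obtain ⟨i, hi⟩ := Subgroup.mem_zpowers_iff.mp
        (htop.ge (mem_top ((⟨n', hn'P⟩ : (P : Subgroup C)) : (P : Subgroup C) ⧸ T.D.M)))
      rw [← QuotientGroup.mk_zpow] at hi
      have hm := T.fix P.2 hgP (QuotientGroup.eq.mp hi) (Subtype.ext (by
        simp only [coe_mul, coe_inv, coe_zpow]
        calc g * ((g ^ i)⁻¹ * n') * g⁻¹ = (g ^ i)⁻¹ * (g * n' * g⁻¹) := by group
          _ = _ := by rw [hfixn]))
      have hm' := T.coe_mem_Zc hm
      simp only [coe_mul, coe_inv, coe_zpow] at hm'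
      have := E.mul_mem (E.zpow_mem hgE i) ((zpowers_le.mpr hzE : T.Zc ≤ E) hm')
      rwa [mul_inv_cancel_left] at this
    have hfixb : ψ bb (ψ ⟨c₀, hc₀⟩ ā) = ψ ⟨c₀, hc₀⟩ ā := by
      have e : bb = ⟨c₀, hc₀⟩ * nn * (⟨c₀, hc₀⟩ : normalizer (E : Set C))⁻¹ := Subtype.ext rfl
      rw [e, map_mul, map_mul, map_inv, MulAut.mul_apply, MulAut.mul_apply, MulAut.inv_apply_self, hfixa]
    have hba : ψ bb ∉ zpowers (ψ nn) := by
      rintro ⟨i, hi⟩
      have hba' : ψ bb ā = ā := by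
        rw [← show ψ nn ^ i = ψ bb from hi]
        exact zpow_mem (show ψ nn ∈ MulAction.stabilizer (MulAut (E ⧸ Z')) ā from hfixa) i
      have htop : zpowers ā ⊔ zpowers (ψ ⟨c₀, hc₀⟩ ā) = ⊤ := by
        have hā1 : ā ≠ 1 := fun h => by
          have h' : (T.D.a : C) ∈ T.Zc := (QuotientGroup.eq_one_iff (N := Z') (⟨T.D.a, ha⟩ : E)).mp h
          exact T.D.a_notMem ((T.mem_Zc (SetLike.coe_mem T.D.a)).mp h')
        have hnot : ψ ⟨c₀, hc₀⟩ ā ∉ zpowers ā := by
          rintro ⟨l, hl⟩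
          apply hmove
          rw [hā, hψ] at hl
          have hm := QuotientGroup.eq.mp (show (((⟨T.D.a, ha⟩ : E) ^ l : E) : E ⧸ Z') = _ from
            (QuotientGroup.mk_zpow _ _ _).trans hl)
          have hm' : ((T.D.a : C) ^ l)⁻¹ * (c₀ * (T.D.a : C) * c₀⁻¹) ∈ T.Zc := hm
          have := T.Ac.mul_mem (T.Ac.zpow_mem ⟨_, T.D.a_mem_A, rfl⟩ l) (T.Zc_le_Ac hm')
          rwa [Subgroup.coe_subtype, mul_inv_cancel_left] at this
        have hlt' : zpowers ā < zpowers ā ⊔ zpowers (ψ ⟨c₀, hc₀⟩ ā) :=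
          lt_of_le_of_ne le_sup_left fun e => hnot (e ▸ mem_sup_right (mem_zpowers _))
        have hVp : IsPGroup 3 (E ⧸ Z') := hEp.to_quotient _
        have h1 := CfsgLib.Fusion.MaxClass.card_mul_le_of_lt hVp hlt'
        have h2 := CfsgLib.Fusion.MaxClass.card_mul_le_of_lt hVp
          (show (⊥ : Subgroup (E ⧸ Z')) < zpowers ā from bot_lt_iff_ne_bot.mpr fun e => hā1 (zpowers_eq_bot.mp e))
        rw [Subgroup.card_bot] at h2
        exact Subgroup.eq_top_of_le_card _ (by rw [hVcard]; omega)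
      have hb1 : ψ bb = 1 := by
        refine MulEquiv.ext fun q => ?_
        have hle : zpowers ā ⊔ zpowers (ψ ⟨c₀, hc₀⟩ ā) ≤
            MonoidHom.eqLocus (ψ bb).toMonoidHom (MonoidHom.id _) :=
          sup_le (zpowers_le.mpr hba') (zpowers_le.mpr hfixb)
        exact hle (htop.ge (mem_top q))
      apply hn1
      have e : bb = ⟨c₀, hc₀⟩ * nn * (⟨c₀, hc₀⟩ : normalizer (E : Set C))⁻¹ := Subtype.ext rfl
      rw [e, map_mul, map_mul, map_inv, mul_inv_eq_one, mul_eq_left] at hb1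
      exact hb1
    have hVexp : ∀ q : E ⧸ Z', q ^ 3 = 1 := fun q => by
      obtain ⟨v, rfl⟩ := QuotientGroup.mk_surjective q
      rw [← QuotientGroup.mk_pow, show v ^ 3 = 1 from Subtype.ext (by simpa using hcube v v.2), QuotientGroup.mk_one]
    obtain ⟨ι, ⟨t, ht⟩, hι⟩ := Fsys.MetaNormal.exists_inversion hVcard hVexp (by norm_num) ψ.range
      ⟨nn, rfl⟩ ⟨bb, rfl⟩ hn3 (by
        rw [show bb = ⟨c₀, hc₀⟩ * nn * (⟨c₀, hc₀⟩ : normalizer (E : Set C))⁻¹ from Subtype.ext rfl,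
          map_mul, map_mul, map_inv, conj_pow, hn3, mul_one, mul_inv_cancel]) hn1 hba
    have hinvt : ∀ v : E, (v : C) * ((t : C) * v * (t : C)⁻¹) ∈ T.Zc := fun v => by
      have h := hι (v : E ⧸ Z')
      rw [← ht, hψ, ← QuotientGroup.mk_inv] at h
      have h' := QuotientGroup.eq.mp h.symm
      rw [inv_inv] at h'
      exact h'
    refine ⟨g, hgE, hgM, hsup, h27, hinf, t, t.2, ?_, hinvt ⟨g, hgE⟩⟩
    refine Fsys.mem_normalizer_of_map_le fun u hu => ?_
    have := T.Ac.mul_mem (T.Ac.inv_mem hu) (T.Zc_le_Ac (hinvt ⟨u, hAE hu⟩))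
    rwa [inv_mul_cancel_left] at this
  · exfalso
    have h81 : 81 ≤ Nat.card E := by rw [hk]; exact Nat.pow_le_pow_right (show 3 > 0 by norm_num) h4
    refine false_of_conj_line hE ?_ (T.Mc.subgroupOf E) (fun c hc v hv => ?_) (fun h => ?_) ?_
    · have hd := T.card_le P.2 hgP (N := (E ⊓ T.Mc).subgroupOf (P : Subgroup C))
        (H := ((frattini ↥E).map E.subtype).subgroupOf (P : Subgroup C))
        (fun v hv => (T.mem_Mc v.2).mp hv.2) fun v hv => by
          refine ⟨⁅(⟨v, hv.1⟩ : E), ⟨g, hgE⟩⁆, hΦ _ _, ?_⟩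
          simp [commutatorElement_def]
      rw [Nat.card_congr (subgroupOfEquivOfLe (inf_le_left.trans hEP)).toEquiv,
        Nat.card_congr (subgroupOfEquivOfLe ((map_subtype_le _).trans hEP)).toEquiv,
        card_map_of_injective (f := E.subtype) E.subtype_injective] at hd
      refine Nat.le_of_mul_le_mul_left ?_ (Nat.card_pos (α := frattini ↥E))
      rw [Subgroup.card_mul_index, ← hHm]
      omega
    · refine (mem_subgroupOf.mpr ?_)
      rw [Fsys.conjAut_coe]
      exact ((mem_normalizer_iff.mp (T.normalizes_inf hzC hEP hEM hzE h81 hc) _).mp ⟨v.2, hv⟩).2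
    · exact hEM (subgroupOf_eq_top.mp h)
    · have h1 := Subgroup.card_mul_index (T.Mc.subgroupOf E)
      have h2 : Nat.card (T.Mc.subgroupOf E) = Nat.card (E ⊓ T.Mc : Subgroup C) := by
        rw [← card_map_of_injective (f := E.subtype) E.subtype_injective, subgroupOf_map_subtype, inf_comm]
      rw [h2, ← hHm] at h1
      have := Nat.card_pos (α := (E ⊓ T.Mc : Subgroup C))
      exact le_of_eq (Nat.eq_of_mul_eq_mul_left this (h1.trans (mul_comm _ _)))

end CfsgLib.LocalEvenB.IsolatedSylow.Thin
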