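import Mathlib
import Cfsg.Agent.Lib.FusionSystem.Generation
import Cfsg.Agent.Lib.FusionSystem.Group

/-!
Transfer tools for a central element in the focal subgroup: invariant homomorphisms, and fusion from generators.
-/

set_option autoImplicit false
set_option linter.style.haveILetI false

open Cfsg Cfsg.FusionSystem
open scoped commutatorElement

namespace CfsgLib.LocalEvenB.IsolatedSylow

variable {C : Type*} [Group C] [Finite C] {p : ℕ} [hp : Fact p.Prime] (P : Sylow p C)

/-- A homomorphism from a Sylow subgroup invariant under fusion vanishes if that subgroup is in the derived group. -/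
theorem hom_eq_one (hC : (P : Subgroup C) ≤ commutator C) {A : Type*} [CommGroup A] (χ : (P : Subgroup C) →* A)
    (hinv : ∀ a b : (P : Subgroup C), ∀ g : C, g * (a : C) * g⁻¹ = b → χ a = χ b) (a : (P : Subgroup C)) :
    χ a = 1 := by
  classical
  haveI : Fintype (C ⧸ (P : Subgroup C)) := Fintype.ofFinite _
  have h1 : MonoidHom.transfer χ (a : C) = 1 :=
    Abelianization.commutator_subset_ker (MonoidHom.transfer χ) (hC a.2)
  have h2 : MonoidHom.transfer χ (a : C) = χ a ^ (P : Subgroup C).index := by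
    rw [MonoidHom.transfer_eq_prod_quotient_orbitRel_zpowers_quot, (P : Subgroup C).index_eq_sum_minimalPeriod (a : C),
      ← Finset.prod_pow_eq_pow_sum]
    refine Finset.prod_congr rfl fun q _ => ?_
    rw [← map_pow χ]
    refine (hinv (a ^ Function.minimalPeriod ((a : C) • ·) q.out) _ q.out.out⁻¹ ?_).symm
    simp
  obtain ⟨m, hm⟩ := P.2 a
  have hd : orderOf (χ a) ∣ p ^ m := orderOf_dvd_of_pow_eq_one (by rw [← map_pow, hm, map_one])
  have hd' : orderOf (χ a) ∣ (P : Subgroup C).index := orderOf_dvd_of_pow_eq_one (by rw [← h2, h1])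
  have hcop : (p ^ m).Coprime (P : Subgroup C).index :=
    ((hp.out.coprime_iff_not_dvd).2 (Sylow.not_dvd_index P)).pow_left m
  exact orderOf_eq_one_iff.mp (Nat.eq_one_of_dvd_coprimes hcop hd hd')

/-- A normal subgroup absorbing all fusion of a Sylow subgroup is everything. -/
theorem eq_top_of_moves (hC : (P : Subgroup C) ≤ commutator C) (N : Subgroup (P : Subgroup C)) [N.Normal]
    (hN : commutator (P : Subgroup C) ≤ N)
    (hmove : ∀ a b : (P : Subgroup C), ∀ g : C, g * (a : C) * g⁻¹ = b → a⁻¹ * b ∈ N) : N = ⊤ := by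
  letI : CommGroup ((P : Subgroup C) ⧸ N) :=
    { (inferInstance : Group ((P : Subgroup C) ⧸ N)) with
      mul_comm := fun u v => by
        obtain ⟨u, rfl⟩ := QuotientGroup.mk_surjective u
        obtain ⟨v, rfl⟩ := QuotientGroup.mk_surjective v
        rw [← QuotientGroup.mk_mul, ← QuotientGroup.mk_mul, QuotientGroup.eq]
        refine hN ?_
        rw [show (u * v)⁻¹ * (v * u) = ⁅v⁻¹, u⁻¹⁆ by simp [commutatorElement_def, mul_assoc]]
        exact Subgroup.commutator_mem_commutator (Subgroup.mem_top _) (Subgroup.mem_top _) }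
  refine eq_top_iff.mpr fun a _ => (QuotientGroup.eq_one_iff a).mp ?_
  exact hom_eq_one P hC (QuotientGroup.mk' N) (fun a b g h => QuotientGroup.eq.mpr (hmove a b g h)) a

/-- A central element of the derived group lies in the derived group of a Sylow subgroup containing it. -/
theorem mem_commutator_of_central {x : C} (hxP : x ∈ (P : Subgroup C)) (hx : x ∈ Subgroup.center C)
    (hxC : x ∈ commutator C) : (⟨x, hxP⟩ : (P : Subgroup C)) ∈ commutator (P : Subgroup C) := by
  classical
  set H : Subgroup C := (P : Subgroup C)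
  haveI : Fintype (C ⧸ H) := Fintype.ofFinite _
  set φ := (Abelianization.of : H →* Abelianization H)
  have h1 : MonoidHom.transfer φ x = 1 :=
    Abelianization.commutator_subset_ker (MonoidHom.transfer φ) hxC
  have key : ∀ (k : ℕ) (g : C), g⁻¹ * x ^ k * g ∈ H → g⁻¹ * x ^ k * g = x ^ k := fun k g _ => by
    rw [mul_assoc, ← Subgroup.mem_center_iff.mp (Subgroup.pow_mem _ hx k) g, inv_mul_cancel_left]
  rw [MonoidHom.transfer_eq_pow φ x key, show (⟨x ^ H.index, _⟩ : H) = (⟨x, hxP⟩ : H) ^ H.index from rfl,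
    map_pow] at h1
  obtain ⟨m, hm⟩ := P.2 ⟨x, hxP⟩
  have hd : orderOf (φ ⟨x, hxP⟩) ∣ p ^ m := orderOf_dvd_of_pow_eq_one (by rw [← map_pow, hm, map_one])
  have hd' : orderOf (φ ⟨x, hxP⟩) ∣ H.index := orderOf_dvd_of_pow_eq_one h1
  have hcop : (p ^ m).Coprime H.index :=
    ((hp.out.coprime_iff_not_dvd).2 (Sylow.not_dvd_index P)).pow_left m
  rw [← Abelianization.ker_of, MonoidHom.mem_ker]
  exact orderOf_eq_one_iff.mp (Nat.eq_one_of_dvd_coprimes hcop hd hd')

/-- Fusion moves elements only inside `N` when the automizers of the Sylow subgroup and of the essential subgroups do. -/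
theorem moves_mem_of_generators {N : Subgroup C}
    (hgen : ∀ E : Subgroup C, E = (P : Subgroup C) ∨ (groupFusionSystem (P : Subgroup C)).IsEssential p E →
      ∀ c ∈ Subgroup.normalizer (E : Set C), ∀ u ∈ E, u⁻¹ * (c * u * c⁻¹) ∈ N)
    {a g : C} (ha : a ∈ (P : Subgroup C)) (hga : g * a * g⁻¹ ∈ (P : Subgroup C)) :
    a⁻¹ * (g * a * g⁻¹) ∈ N := by
  set S : Subgroup C := (P : Subgroup C) with hSdef
  set F := groupFusionSystem S with hF
  let K : Subgroup C → (C → C) → Prop := fun D f => ∀ u ∈ D, u⁻¹ * f u ∈ N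
  let Esys := Fsys.predSystem F K (fun D f g he _ h u hu => he u hu ▸ h u hu)
    (fun D hD s hs u hu => hgen S (Or.inl rfl) s (Subgroup.le_normalizer hs) u (hD hu))
    (fun D R f g _ _ hm h h' u hu => by
      simpa [mul_assoc] using N.mul_mem (h u hu) (h' _ (hm u hu)))
    (fun D f g hf _ he h y hy => by
      obtain ⟨u, hu, rfl⟩ := hf.mem_img.1 hy
      rw [he u hu]
      simpa using N.inv_mem (h u hu))
  have key : ∀ E : Subgroup C, E = S ∨ F.IsEssential p E → F.autGroup E ≤ Esys.autGroup E := by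
    intro E hE α hα
    have hES : E ≤ S := hE.elim (fun e => e.le) fun h => h.1.1
    refine (Fsys.mem_autGroup_iff_fn hES).2
      (Fsys.fn_predSystem.2 ⟨(Fsys.mem_autGroup_iff_fn hES).1 hα, fun u hu => ?_⟩)
    rw [hF, Fsys.group_autGroup hES] at hα
    obtain ⟨c, -, hc⟩ := Fsys.mem_autInducedBy.1 hα
    have hcN : c ∈ Subgroup.normalizer (E : Set C) := by
      haveI : Finite E := inferInstance
      exact Fsys.mem_normalizer_of_map_le fun v hv => (hc ⟨v, hv⟩) ▸ (α ⟨v, hv⟩).2
    rw [show Fsys.autFn α u = c * u * c⁻¹ from (Fsys.autFn_coe α ⟨u, hu⟩).trans (hc ⟨u, hu⟩)]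
    exact hgen E hE c hcN u hu
  have hle : F ≤ Esys := Fsys.alperin P.2 (Fsys.group_isSaturated P) Esys (key S (Or.inl rfl))
    fun E _ hE => key E (Or.inr hE)
  have hfn : Fsys.Fn F (Subgroup.zpowers a) (fun u => g * u * g⁻¹) := by
    refine Fsys.fn_group_conj (Subgroup.zpowers_le.2 ha) g fun u hu => ?_
    obtain ⟨i, rfl⟩ := Subgroup.mem_zpowers_iff.1 hu
    rw [← conj_zpow]
    exact Subgroup.zpow_mem _ hga i
  exact (Fsys.fn_predSystem.1 (Fsys.fn_of_le hle hfn)).2 a (Subgroup.mem_zpowers a)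

end CfsgLib.LocalEvenB.IsolatedSylow
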