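import Mathlib
import Cfsg.Agent.Lib.LocalEvenB.IsolatedSylow.ThinEssential
import Cfsg.Agent.Lib.LocalEvenB.IsolatedSylow.Transfer

/-!
A thin Sylow `3`-subgroup of even exponent with central `z` is not in the derived group.
-/

set_option autoImplicit false
set_option linter.style.haveILetI false

open Subgroup Cfsg Cfsg.FusionSystem
open scoped commutatorElement

namespace CfsgLib.LocalEvenB.IsolatedSylow.Thin

variable {C : Type*} [Group C] [Finite C] {P : Sylow 3 C} (T : Thin ↥(P : Subgroup C))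

theorem not_le_commutator (hzC : (T.D.z : C) ∈ center C) {n : ℕ} (hn : Nat.card (P : Subgroup C) = 3 ^ n)
    (h4 : 4 ≤ n) (heven : Even n) : ¬ (P : Subgroup C) ≤ commutator C := by
  classical
  intro hC
  set Φ := frattini ↥(P : Subgroup C) with hΦ
  haveI hΦn : Φ.Normal := inferInstance
  have hΦchar : ∀ (α : MulAut ↥(P : Subgroup C)) v, v ∈ Φ → α v ∈ Φ := fun α v hv =>
    (Subgroup.characteristic_iff_map_le.mp frattini_characteristic α) ⟨v, hv, rfl⟩
  have hcomm : ∀ u v : ↥(P : Subgroup C), ⁅u, v⁆ ∈ Φ := CfsgLib.PGroup.Frattini.commutatorElement_mem_frattini P.2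
  -- the quotient by `Φ` and the induced maps
  let V := ↥(P : Subgroup C) ⧸ Φ
  have hVc : ∀ u v : V, u * v = v * u := CfsgLib.PGroup.Frattini.quotient_mul_comm P.2
  let φ : normalizer ((P : Subgroup C) : Set C) →* MulAut ↥(P : Subgroup C) :=
    Subgroup.normalizerMonoidHom (P : Subgroup C)
  have hφ : ∀ c v, ((φ c v : (P : Subgroup C)) : C) = (c : C) * v * (c : C)⁻¹ := fun _ _ => rfl
  have hφz : ∀ c, φ c T.D.z = T.D.z := fun c => Subtype.ext (by
    rw [hφ]; exact T.conj_Zc hzC (c : C) (mem_zpowers _))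
  have hmk : ∀ (α : MulAut ↥(P : Subgroup C)) (u v : ↥(P : Subgroup C)), (u : V) = v → ((α u : ↥(P : Subgroup C)) : V) = α v := by
    intro α u v h
    refine QuotientGroup.eq.mpr ?_
    rw [← map_inv, ← map_mul]
    exact hΦchar α _ (QuotientGroup.eq.mp h)
  have hM : ∀ (c) (s), s ∈ T.D.M → ((φ c s : ↥(P : Subgroup C)) : V) = s := fun c s hs =>
    (QuotientGroup.eq.mpr (T.weight P.2 hn h4 heven (hφz c) hs)).symm
  -- automorphisms fixing the coset of `x0` modulo `M` are trivial on `V`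
  have htriv : ∀ c, T.x0⁻¹ * φ c T.x0 ∈ T.D.M → ∀ v, ((φ c v : ↥(P : Subgroup C)) : V) = v := by
    intro c hc
    set w := T.x0⁻¹ * φ c T.x0 with hw
    have hx : φ c T.x0 = T.x0 * w := by rw [hw, mul_inv_cancel_left]
    have hpow : ∀ k : ℕ, ((φ (c ^ k) T.x0 : ↥(P : Subgroup C)) : V) = (T.x0 : V) * (w : V) ^ k := by
      intro k
      induction k with
      | zero => rw [pow_zero, map_one, pow_zero, mul_one]; rfl
      | succ k ih =>
        rw [pow_succ', map_mul, MulAut.mul_apply, hmk (φ c) (φ (c ^ k) T.x0) (T.x0 * w ^ k) (by rw [ih]; rfl), map_mul,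
          QuotientGroup.mk_mul, hM c _ (pow_mem hc k), hx, QuotientGroup.mk_mul, QuotientGroup.mk_pow, pow_succ',
          mul_assoc]
    have hw3 : (w : V) ^ 3 = 1 := CfsgLib.PGroup.Frattini.quotient_pow_eq_one P.2 _
    obtain ⟨a, r, hr, ho⟩ := Nat.exists_eq_pow_mul_and_not_dvd (isOfFinOrder_of_finite c).orderOf_pos.ne' 3 (by norm_num)
    have hmem : ((c ^ r : normalizer ((P : Subgroup C) : Set C)) : C) ∈ (P : Subgroup C) := by
      have hp : IsPGroup 3 (zpowers ((c ^ r : normalizer ((P : Subgroup C) : Set C)) : C)) := by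
        refine IsPGroup.of_card (n := a) ?_
        rw [Nat.card_zpowers, Subgroup.orderOf_coe, orderOf_pow, ho]
        rw [Nat.gcd_eq_right (Dvd.intro_left _ rfl), Nat.mul_div_cancel _ (Nat.pos_of_ne_zero fun h => hr (by rw [h]; exact dvd_zero 3))]
      have hsup := P.is_maximal' (hp.to_sup_of_normal_right' P.2 (zpowers_le.mpr (c ^ r).2)) le_sup_right
      have hm := mem_sup_left (T := (P : Subgroup C)) (mem_zpowers ((c ^ r : normalizer ((P : Subgroup C) : Set C)) : C))
      rw [hsup] at hm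
      exact hm
    have hinner : ((φ (c ^ r) T.x0 : ↥(P : Subgroup C)) : V) = T.x0 := by
      set q : ↥(P : Subgroup C) := ⟨_, hmem⟩
      rw [show φ (c ^ r) T.x0 = q * T.x0 * q⁻¹ from Subtype.ext rfl]
      simp only [QuotientGroup.mk_mul, QuotientGroup.mk_inv]
      rw [hVc (q : V), mul_inv_cancel_right]
    rw [hpow, mul_eq_left] at hinner
    have hw1 : (w : V) = 1 := orderOf_eq_one_iff.mp (Nat.eq_one_of_dvd_coprimes
      ((Nat.prime_three.coprime_iff_not_dvd).mpr hr) (orderOf_dvd_of_pow_eq_one hw3) (orderOf_dvd_of_pow_eq_one hinner))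
    intro v
    rcases T.coset v with h | h | h
    · exact hM c v h
    · rw [show v = T.x0 * (T.x0⁻¹ * v) by group, map_mul, QuotientGroup.mk_mul, QuotientGroup.mk_mul,
        hM c _ h, hx, QuotientGroup.mk_mul, hw1, mul_one]
    · rw [show v = T.x0⁻¹ * (T.x0 * v) by group, map_mul, map_inv, QuotientGroup.mk_mul, QuotientGroup.mk_mul,
        hM c _ h, QuotientGroup.mk_inv, QuotientGroup.mk_inv, hx, QuotientGroup.mk_mul, hw1, mul_one]
  -- the sign of each automorphism
  have hsign : ∀ c, T.x0⁻¹ * φ c T.x0 ∈ T.D.M ∨ T.x0 * φ c T.x0 ∈ T.D.M := by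
    intro c
    rcases T.coset (φ c T.x0) with h | h | h
    · exfalso
      have h2 := T.map_M P.2 hn h4 (hφz c⁻¹) h
      rw [← MulAut.mul_apply, ← map_mul, inv_mul_cancel, map_one] at h2
      exact T.hx0 h2
    · exact Or.inl h
    · exact Or.inr h
  have hprod : ∀ c d, T.x0 * φ c T.x0 ∈ T.D.M → T.x0 * φ d T.x0 ∈ T.D.M →
      T.x0⁻¹ * φ (c * d) T.x0 ∈ T.D.M := by
    intro c d hc hd
    haveI := T.D.M_normal
    have h1 := T.map_M P.2 hn h4 (hφz c) hd
    rw [map_mul] at h1
    rw [map_mul, MulAut.mul_apply]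
    set u := φ c T.x0
    set u' := φ c (φ d T.x0)
    have h2 : T.x0⁻¹ * u⁻¹ ∈ T.D.M := by
      have := T.D.M_normal.conj_mem _ (inv_mem hc) T.x0⁻¹
      rw [mul_inv_rev, inv_inv] at this
      have e : T.x0⁻¹ * (u⁻¹ * T.x0⁻¹) * T.x0 = T.x0⁻¹ * u⁻¹ := by group
      rwa [e] at this
    have := mul_mem h2 h1
    rwa [show T.x0⁻¹ * u⁻¹ * (u * u') = T.x0⁻¹ * u' by group] at this
  -- the subgroup absorbing the fusion
  set N0 : Subgroup ↥(P : Subgroup C) := Φ ⊔ closure {w | ∃ c v, w = v⁻¹ * φ c v} with hN0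
  have hΦle : Φ ≤ N0 := le_sup_left
  haveI hN0n : N0.Normal := ⟨fun v hv u => by
    have h := hN0 ▸ mul_mem (hΦle (hcomm u v)) hv
    rwa [commutatorElement_def, show u * v * u⁻¹ * v⁻¹ * v = u * v * u⁻¹ by group] at h⟩
  have hproper : N0 ≠ ⊤ := by
    obtain ⟨s, hs, hsΦ⟩ : ∃ s ∈ T.D.M, s ∉ Φ := by
      by_contra hall
      push Not at hall
      have hidx : Φ.index ≤ 3 := by
        have h1 := T.card_M_le_frattini P.2
        have h3 := Subgroup.card_mul_index T.D.M
        have h2 := Subgroup.card_mul_index Φ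
        have h5 : Nat.card T.D.M ≤ Nat.card Φ := card_le_of_le hall
        rw [T.idx, ← h2] at h3
        exact Nat.le_of_mul_le_mul_left (h3.symm.le.trans (Nat.mul_le_mul_right 3 h5)) Nat.card_pos
      haveI : IsCyclic V := by
        obtain ⟨j, hj⟩ := P.2.index Φ
        have hj1 : j ≤ 1 := by
          by_contra hj2
          have := Nat.pow_le_pow_right (show 3 > 0 by norm_num) (show 2 ≤ j by omega)
          omega
        rcases (show j = 0 ∨ j = 1 by omega) with rfl | rfl
        · haveI : Subsingleton V := (Nat.card_eq_one_iff_unique.mp (by rw [← Subgroup.index_eq_card, hj]; rfl)).1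
          infer_instance
        · exact isCyclic_of_prime_card (p := 3) (by rw [← Subgroup.index_eq_card, hj]; rfl)
      obtain ⟨g, hg⟩ := IsCyclic.exists_generator (α := V)
      obtain ⟨g, rfl⟩ := QuotientGroup.mk_surjective g
      have htop : zpowers g ⊔ Φ = ⊤ := by
        rw [eq_top_iff]
        intro v _
        obtain ⟨i, hi⟩ := Subgroup.mem_zpowers_iff.mp (hg v)
        rw [← QuotientGroup.mk_zpow] at hi
        have := mul_mem (mem_sup_left (zpow_mem (mem_zpowers g) i) : g ^ i ∈ zpowers g ⊔ Φ) (mem_sup_right (QuotientGroup.eq.mp hi))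
        rwa [mul_inv_cancel_left] at this
      have hcyc := frattini_nongenerating htop
      have hab : ∀ u v : ↥(P : Subgroup C), u * v = v * u := by
        intro u v
        obtain ⟨i, rfl⟩ := Subgroup.mem_zpowers_iff.mp (hcyc.ge (mem_top u))
        obtain ⟨j, rfl⟩ := Subgroup.mem_zpowers_iff.mp (hcyc.ge (mem_top v))
        exact ((Commute.refl g).zpow_zpow i j).eq
      exact T.hx0 (T.D.mem_M.mpr (hab _ _))
    -- a subgroup containing all the moves and missing `s`
    obtain ⟨H, hΦH, hH, hsH⟩ : ∃ H : Subgroup ↥(P : Subgroup C), Φ ≤ H ∧ (∀ c v, v⁻¹ * φ c v ∈ H) ∧ s ∉ H := by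
      by_cases hex : ∃ c0, T.x0 * φ c0 T.x0 ∈ T.D.M
      swap
      · push Not at hex
        exact ⟨Φ, le_rfl, fun c v => QuotientGroup.eq.mp (htriv c ((hsign c).resolve_right (hex c)) v).symm, hsΦ⟩
      obtain ⟨c0, hc0⟩ := hex
      let f : V →* V := QuotientGroup.map Φ Φ (φ c0).toMonoidHom fun v hv => hΦchar _ v hv
      have hf : ∀ v : ↥(P : Subgroup C), f v = (φ c0 v : ↥(P : Subgroup C)) := fun v => rfl
      let H : Subgroup ↥(P : Subgroup C) :=
        { carrier := {v | f v * (v : V) = 1}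
          one_mem' := by simp
          mul_mem' := fun {u v} hu hv => by
            simp only [Set.mem_setOf_eq, QuotientGroup.mk_mul, map_mul] at hu hv ⊢
            rw [mul_assoc, ← mul_assoc (f (v : V)), hVc (f (v : V)), mul_assoc (u : V), hv, mul_one, hu]
          inv_mem' := fun {u} hu => by
            simp only [Set.mem_setOf_eq, QuotientGroup.mk_inv, map_inv] at hu ⊢
            rw [← mul_inv_rev, hVc, hu, inv_one] }
      refine ⟨H, fun v hv => ?_, fun c v => ?_, fun hsm => hsΦ ?_⟩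
      · show f (v : V) * (v : V) = 1
        rw [(QuotientGroup.eq_one_iff v).mpr hv, map_one, one_mul]
      · show f ((v⁻¹ * φ c v : ↥(P : Subgroup C)) : V) * ((v⁻¹ * φ c v : ↥(P : Subgroup C)) : V) = 1
        rcases hsign c with hc | hc
        · rw [QuotientGroup.mk_mul, htriv c hc v, QuotientGroup.mk_inv, inv_mul_cancel, map_one, one_mul]
        · have h1 : ((φ c0 (φ c v) : ↥(P : Subgroup C)) : V) = v := by
            rw [← MulAut.mul_apply, ← map_mul]; exact htriv _ (hprod c0 c hc0 hc) v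
          have h2 : ∀ u, ((φ c0 (φ c0 u) : ↥(P : Subgroup C)) : V) = u := fun u => by
            rw [← MulAut.mul_apply, ← map_mul]; exact htriv _ (hprod c0 c0 hc0 hc0) u
          have h3 : ((φ c v : ↥(P : Subgroup C)) : V) = φ c0 v := by
            rw [← h2 (φ c v)]; exact hmk (φ c0) _ _ h1
          simp only [QuotientGroup.mk_mul, QuotientGroup.mk_inv, map_mul, map_inv]
          rw [hf, hf, h1, h3, mul_assoc, ← mul_assoc (v : V), mul_inv_cancel, one_mul, inv_mul_cancel]
      · have h : f (s : V) * (s : V) = 1 := hsm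
        rw [hf, hM c0 s hs] at h
        have h3 := CfsgLib.PGroup.Frattini.quotient_pow_eq_one P.2 (s : V)
        rw [← sq] at h
        rw [pow_succ, h, one_mul] at h3
        exact (QuotientGroup.eq_one_iff s).mp h3
    intro htop
    have hle : N0 ≤ H := sup_le hΦH ((closure_le _).mpr (by rintro _ ⟨c, v, rfl⟩; exact hH c v))
    exact hsH (hle (htop ▸ mem_top s))
  refine hproper (eq_top_of_moves P hC N0 ?_ fun a b g hab => ?_)
  · rw [_root_.commutator_def, Subgroup.commutator_le]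
    exact fun u _ v _ => hΦle (hcomm u v)
  set N := N0.map (P : Subgroup C).subtype with hN
  suffices h : (a : C)⁻¹ * (g * (a : C) * g⁻¹) ∈ N by
    rw [hab] at h
    obtain ⟨w, hw, he⟩ := h
    have : w = a⁻¹ * b := Subtype.ext he
    exact this ▸ hw
  refine moves_mem_of_generators P (fun E hE c hc u hu => ?_) a.2 (hab ▸ b.2)
  rcases hE with rfl | hE
  · refine ⟨(⟨u, hu⟩ : (P : Subgroup C))⁻¹ * φ ⟨c, hc⟩ ⟨u, hu⟩, ?_, rfl⟩
    exact mem_sup_right (subset_closure ⟨⟨c, hc⟩, _, rfl⟩)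
  · obtain ⟨g0, hgE, hgM, hsup, h27, hinf, t, htE, htA, hgt⟩ :=
      T.pearl hzC (by rw [hn]; exact Nat.pow_le_pow_right (show 3 > 0 by norm_num) h4) hE
    have hEP : E ≤ (P : Subgroup C) := hE.1.1
    have hΦA : T.Ac ≤ N := map_mono ((T.A_le_frattini P.2 hn h4).trans hΦle)
    have hgN : g0 ∈ N := by
      have hgA : g0 * (t * g0 * t⁻¹) ∈ E ⊓ T.Mc ⊓ Fc (P := P) := by
        refine ⟨hinf.symm.le (T.Zc_le_Ac hgt), ?_⟩
        have hzF : T.Zc ≤ Fc (P := P) := zpowers_le.mpr ⟨T.D.z, T.z_mem_frattini P.2 hn h4, rfl⟩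
        exact hzF hgt
      obtain ⟨t', ht', hgt'⟩ := T.tower hzC hn hgM E hEP hgE (T.z_mem_essential hzC hE) (by omega) t htE
        (by rw [hinf]; exact htA) hgA
      set γ : ↥(P : Subgroup C) := ⟨g0, hEP hgE⟩
      have h1 : γ * φ ⟨t', ht'⟩ γ ∈ N0 := by
        obtain ⟨w, hw, he⟩ := hgt'
        have : w = γ * φ ⟨t', ht'⟩ γ := Subtype.ext he
        exact this ▸ hΦle hw
      have h2 : γ⁻¹ * φ ⟨t', ht'⟩ γ ∈ N0 := mem_sup_right (subset_closure ⟨_, _, rfl⟩)
      have h3 : γ ^ 2 ∈ N0 := by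
        have := mul_mem h1 (inv_mem h2)
        rwa [mul_inv_rev, inv_inv, mul_assoc, mul_inv_cancel_left, ← sq] at this
      have h4' : γ ^ 3 ∈ N0 := hΦle (CfsgLib.PGroup.Frattini.pow_mem_frattini P.2 γ)
      have h5 := mul_mem (inv_mem h3) h4'
      rw [pow_succ γ 2, inv_mul_cancel_left] at h5
      exact ⟨γ, h5, rfl⟩
    have hEN : E ≤ N := hsup.trans (sup_le (zpowers_le.mpr hgN) hΦA)
    exact mul_mem (inv_mem (hEN hu)) (hEN ((mem_normalizer_iff.mp hc u).mp hu))

end CfsgLib.LocalEvenB.IsolatedSylow.Thin
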