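import Mathlib
import Cfsg.Agent.Lib.LocalEvenB.IsolatedSylow.ThinFinal
import Cfsg.Agent.Lib.LocalEvenB.IsolatedSylow.Classify
import Cfsg.Agent.Lib.LocalEvenB.IsolatedSylow.Families
import Cfsg.Agent.Lib.LocalEvenB.OrderPCubed
import Cfsg.Agent.Lib.FusionSystem.MetacyclicNormal
import Cfsg.Agent.Lib.PGroup.SmallCentralizerRank

/-!
A Sylow subgroup of rank two with a central element of prime order, inside the derived group.
-/

set_option autoImplicit false
set_option linter.style.haveILetI false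

open Subgroup Cfsg Cfsg.FusionSystem
open scoped commutatorElement

namespace CfsgLib.LocalEvenB.IsolatedSylow

open CfsgLib.PGroup CfsgLib.PGroup.RankTwoOdd

variable {C : Type*} [Group C] [Finite C] {p : ℕ} [hp : Fact p.Prime]

/-- A metacyclic Sylow subgroup, `p` odd, inside the derived group is abelian. -/
theorem commute_of_metacyclic (hodd : p ≠ 2) (P : Sylow p C) (hC : (P : Subgroup C) ≤ commutator C)
    (hm : Cfsg.IsMetacyclic ↥(P : Subgroup C)) : ∀ u v : ↥(P : Subgroup C), u * v = v * u := by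
  classical
  set S : Subgroup C := (P : Subgroup C) with hS
  set N : Subgroup C := normalizer (S : Set C) with hNdef
  have hSN : S ≤ N := le_normalizer
  set N0 : Subgroup C := ⁅S, N⁆ with hN0
  have hN0S : N0 ≤ S := le_normalizer_iff_commutator_le_left.mp le_rfl
  have hSN0 : S ≤ normalizer (N0 : Set C) := normalizer_commutator_ge_left S N
  haveI : (N0.subgroupOf S).Normal := (normal_subgroupOf_iff_le_normalizer hN0S).mpr hSN0
  have htop : N0.subgroupOf S = ⊤ := by
    refine eq_top_of_moves P hC _ ?_ fun a b g hab => ?_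
    · rw [_root_.commutator_def, Subgroup.commutator_le]
      intro u _ v _
      rw [mem_subgroupOf]
      exact commutator_mem_commutator u.2 (hSN v.2)
    · rw [mem_subgroupOf]
      have h := moves_mem_of_generators P (N := N0) (fun E hE c hc u hu => ?_) a.2 (hab ▸ b.2)
      · rw [hab] at h
        exact h
      · have hES : E = S := hE.elim id fun hE => le_antisymm hE.1.1
          (Fsys.metacyclic_le_essential P.2 (Fsys.group_isSaturated P) hodd
            ⟨le_rfl, fun R _ φ hφ x => ((groupFusionSystem S).le_of_mem hφ).2 x⟩ hm hE)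
        subst hES
        rw [show u⁻¹ * (c * u * c⁻¹) = ⁅u⁻¹, c⁆ by simp [commutatorElement_def, mul_assoc]]
        exact commutator_mem_commutator (inv_mem hu) hc
  -- a complement to `S` in its normalizer
  haveI : (S.subgroupOf N).Normal := normal_in_normalizer
  obtain ⟨K0, hK0⟩ := exists_right_complement'_of_coprime (N := S.subgroupOf N) (by
    rw [Nat.card_congr (subgroupOfEquivOfLe hSN).toEquiv]
    obtain ⟨k, hk⟩ := IsPGroup.iff_card.mp P.2
    rw [hk]
    refine ((hp.out.coprime_iff_not_dvd).2 fun hd => ?_).pow_left k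
    exact Sylow.not_dvd_index P (hd.trans (Subgroup.relIndex_dvd_index_of_le hSN)))
  set K : Subgroup C := K0.map N.subtype with hK
  have hKN : K ≤ N := map_subtype_le _
  have hKcop : (Nat.card K).Coprime p := by
    have h1 := hK0.symm.index_eq_card
    rw [hK, card_map_of_injective N.subtype_injective, ← h1]
    exact ((hp.out.coprime_iff_not_dvd).2 fun hd =>
      Sylow.not_dvd_index P (hd.trans (Subgroup.relIndex_dvd_index_of_le hSN))).symm
  obtain ⟨hWab, -, -, -⟩ := OddOrder.Metacyclic.split hodd S K P.2 hm hKN hKcop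
  set W : Subgroup C := ⁅S, K⁆ with hW
  have hWS : W ≤ S := le_normalizer_iff_commutator_le_left.mp hKN
  have hSW : S ≤ normalizer (W : Set C) := normalizer_commutator_ge_left S K
  have hle : N0 ≤ W ⊔ ⁅S, S⁆ := by
    rw [hN0, Subgroup.commutator_le]
    intro u hu n hn
    obtain ⟨v, hv, k, hk, hvk⟩ := mem_sup_of_normal_left.mp
      (hK0.sup_eq_top.ge (mem_top (⟨n, hn⟩ : N)))
    have e : n = (v : C) * (k : C) := (congrArg Subtype.val hvk).symm
    rw [e, show ⁅u, (v : C) * (k : C)⁆ = ⁅u, (v : C)⁆ * ((v : C) * ⁅u, (k : C)⁆ * (v : C)⁻¹) by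
      simp [commutatorElement_def, mul_assoc]]
    exact mul_mem (mem_sup_right (commutator_mem_commutator hu hv))
      (mem_sup_left ((mem_normalizer_iff.mp (hSW hv) _).mp (commutator_mem_commutator hu ⟨k, hk, rfl⟩)))
  have hWtop : W.subgroupOf S = ⊤ := by
    refine frattini_nongenerating (eq_top_iff.mpr fun w _ => ?_)
    have hw : (w : C) ∈ W ⊔ ⁅S, S⁆ := hle (mem_subgroupOf.mp (htop.ge (mem_top w)))
    have hcomm : ⁅S, S⁆ ≤ (frattini ↥S).map S.subtype := by
      rw [Subgroup.commutator_le]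
      intro a ha b hb
      exact ⟨⁅(⟨a, ha⟩ : S), ⟨b, hb⟩⁆, Frattini.commutatorElement_mem_frattini P.2 _ _, rfl⟩
    have hw' : (w : C) ∈ (W.subgroupOf S ⊔ frattini ↥S).map S.subtype := by
      rw [Subgroup.map_sup, subgroupOf_map_subtype, inf_eq_left.mpr hWS]
      exact sup_le_sup_left hcomm _ hw
    obtain ⟨w', hw'', he⟩ := hw'
    exact (Subtype.ext he : w' = w) ▸ hw''
  have hu : ∀ w : S, (w : C) ∈ W := fun w => mem_subgroupOf.mp (hWtop.ge (mem_top w))
  intro u v
  refine Subtype.ext ?_
  show (u : C) * (v : C) = (v : C) * (u : C)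
  exact congrArg Subtype.val (hWab.1.1 ⟨(u : C), hu u⟩ ⟨(v : C), hu v⟩)

/-- A nonabelian, nonmetacyclic group of order `p ^ 3` has exponent `p`. -/
theorem pow_eq_one_of_card_cube {R : Type*} [Group R] [Finite R] (hn : Nat.card R = p ^ 3)
    (hna : ∃ u v : R, u * v ≠ v * u) (hm : ¬ Cfsg.IsMetacyclic R) (y : R) : y ^ p = 1 := by
  by_contra hy
  have hd : orderOf y ∣ p ^ 3 := hn ▸ orderOf_dvd_natCard y
  obtain ⟨i, hi, he⟩ := (Nat.dvd_prime_pow hp.out).mp hd
  have h2 : i = 2 := by
    rcases (show i ≤ 1 ∨ i = 2 ∨ i = 3 by omega) with h | rfl | rfl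
    · exact absurd (orderOf_dvd_iff_pow_eq_one.mp (he ▸ (pow_dvd_pow p h).trans (by simp))) hy
    · rfl
    · obtain ⟨u, v, huv⟩ := hna
      haveI : IsCyclic R := isCyclic_of_orderOf_eq_card y (he.trans hn.symm)
      letI : CommGroup R := IsCyclic.commGroup
      exact absurd (mul_comm u v) huv
  subst h2
  have hidx : (zpowers y).index = p := by
    have := Subgroup.card_mul_index (zpowers y)
    rw [Nat.card_zpowers, he, hn, pow_succ p 2] at this
    exact Nat.eq_of_mul_eq_mul_left (pow_pos hp.out.pos 2) this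
  haveI : (zpowers y).Normal := normal_of_index_eq_minFac_card (by
    rw [hidx, hn, Nat.pow_minFac (by norm_num), hp.out.minFac_eq])
  exact hm ⟨zpowers y, inferInstance, inferInstance,
    isCyclic_of_prime_card (p := p) (by rw [← Subgroup.index_eq_card, hidx])⟩

/-- The structure of a Sylow subgroup of rank two inside the derived group containing a central element of order `p`. -/
theorem structure_of_central (hodd : p ≠ 2) (P : Sylow p C) {x : C} (hxP : x ∈ (P : Subgroup C))
    (hx : x ∈ center C) (hord : orderOf x = p) (hC : (P : Subgroup C) ≤ commutator C)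
    (hrk : ∀ E : Subgroup ↥(P : Subgroup C), Cfsg.IsElementaryAbelian p E → Nat.card E ≤ p ^ 2) :
    (Cfsg.IsExtraspecial p ↥(P : Subgroup C) ∧ Nat.card (P : Subgroup C) = p ^ 3 ∧
        ∀ y : ↥(P : Subgroup C), y ^ p = 1) ∨
      (p = 3 ∧ ∃ k : ℕ, 2 ≤ k ∧ Nat.card (P : Subgroup C) = 3 ^ (2 * k + 1) ∧
        Group.nilpotencyClass ↥(P : Subgroup C) = 2 * k) := by
  classical
  set x' : ↥(P : Subgroup C) := ⟨x, hxP⟩ with hx'
  have hx'C : x' ∈ center ↥(P : Subgroup C) :=
    Subgroup.mem_center_iff.mpr fun u => Subtype.ext (Subgroup.mem_center_iff.mp hx u)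
  have hx'1 : x' ≠ 1 := fun h => hp.out.ne_one (by
    rw [← hord, show x = 1 from congrArg Subtype.val h, orderOf_one])
  have hx'D : x' ∈ commutator ↥(P : Subgroup C) := mem_commutator_of_central P hxP hx (hC hxP)
  have hna : ∃ u v : ↥(P : Subgroup C), u * v ≠ v * u := by
    by_contra h
    push Not at h
    have hle : commutator ↥(P : Subgroup C) ≤ ⊥ := by
      rw [_root_.commutator_def, Subgroup.commutator_le]
      exact fun u _ v _ => mem_bot.mpr (commutatorElement_eq_one_iff_mul_comm.mpr (h u v))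
    exact hx'1 (mem_bot.mp (hle hx'D))
  have hm : ¬ Cfsg.IsMetacyclic ↥(P : Subgroup C) := fun hm => by
    obtain ⟨u, v, h⟩ := hna
    exact h (commute_of_metacyclic hodd P hC hm u v)
  obtain ⟨n, hn⟩ := IsPGroup.iff_card.mp P.2
  have h3 : 3 ≤ n := by
    by_contra h
    obtain ⟨u, v, huv⟩ := hna
    rcases (show n ≤ 1 ∨ n = 2 by omega) with h1 | rfl
    · haveI : IsCyclic ↥(P : Subgroup C) := by
        rcases (show n = 0 ∨ n = 1 by omega) with rfl | rfl
        · haveI := (Nat.card_eq_one_iff_unique.mp (hn.trans (pow_zero p))).1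
          exact isCyclic_of_subsingleton
        · exact isCyclic_of_prime_card (p := p) (hn.trans (pow_one p))
      letI : CommGroup ↥(P : Subgroup C) := IsCyclic.commGroup
      exact huv (mul_comm u v)
    · exact huv ((IsPGroup.isMulCommutative_of_card_eq_prime_sq hn).1.1 u v)
  rcases h3.eq_or_lt with rfl | h4
  · exact Or.inl ⟨OrderPCubed.isExtraspecial hn hna, hn, pow_eq_one_of_card_cube hn hna hm⟩
  have hpow : ¬ (FamilyOne p n ↥(P : Subgroup C) ∨
      FamilyTwo p n ↥(P : Subgroup C) ∧ (p = 3 → 5 ≤ n)) := by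
    intro h
    obtain ⟨q, c, hmul, himg, hco, hcom, u, hu⟩ := power_hom hodd hn h4 h
    have hcx : c ∈ zpowers x' :=
      (zpowers_eq_of_mem hco (hcom x' hx'D hx'C) hx'1).symm.le (mem_zpowers c)
    have hcC : (c : C) ∈ center C := by
      obtain ⟨i, rfl⟩ := Subgroup.mem_zpowers_iff.mp hcx
      simpa using zpow_mem hx i
    letI : CommGroup ↥(zpowers c) := IsCyclic.commGroup
    let χ : ↥(P : Subgroup C) →* ↥(zpowers c) :=
      MonoidHom.mk' (fun v => ⟨v ^ q, himg v⟩) fun v w => Subtype.ext (hmul v w)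
    refine hu (congrArg Subtype.val (hom_eq_one P hC χ (fun a b g hab => ?_) u))
    refine Subtype.ext (Subtype.ext ?_)
    show ((a ^ q : ↥(P : Subgroup C)) : C) = ((b ^ q : ↥(P : Subgroup C)) : C)
    have ha : ((a ^ q : ↥(P : Subgroup C)) : C) ∈ center C := by
      obtain ⟨i, hi⟩ := Subgroup.mem_zpowers_iff.mp (himg a)
      rw [← hi]
      simpa using zpow_mem hcC i
    rw [SubmonoidClass.coe_pow, SubmonoidClass.coe_pow, ← hab, conj_pow,
      Subgroup.mem_center_iff.mp (by simpa using ha) g, mul_inv_cancel_right]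
  have hthin : p = 3 ∧ (∀ h : p = 3, Nonempty (Thin ↥(P : Subgroup C))) := by
    rcases classification_datum hodd hn hrk with h | h | h | ⟨hp3, D, x0, hidx, hx0, hfix⟩
    · exact absurd h hm
    · exact absurd (Or.inl h) hpow
    · have hp3 : p = 3 := by
        by_contra hne
        exact hpow (Or.inr ⟨h, fun h => absurd h hne⟩)
      refine ⟨hp3, fun _ => ?_⟩
      subst hp3
      have hn4 : n = 4 := by
        by_contra hne
        exact hpow (Or.inr ⟨h, fun _ => by omega⟩)
      subst hn4
      exact thin_of_card_81 hn hrk (familyTwo_not_class_two hn hrk h)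
    · refine ⟨hp3, fun _ => ?_⟩
      subst hp3
      exact ⟨⟨D, x0, hidx, hx0, hfix⟩⟩
  obtain ⟨hp3, hT⟩ := hthin
  obtain ⟨T⟩ := hT hp3
  subst hp3
  have hzC : (T.D.z : C) ∈ center C := by
    have hz : T.D.z ∈ zpowers x' :=
      (zpowers_eq_of_mem T.D.z_ord (T.mem_zpowers_of_center hx'C) hx'1).symm.le (mem_zpowers _)
    obtain ⟨i, hi⟩ := Subgroup.mem_zpowers_iff.mp hz
    rw [← hi]
    simpa using zpow_mem hx i
  have hev : ¬ Even n := fun h => T.not_le_commutator hzC hn (by omega) h hC
  obtain ⟨k, rfl⟩ := Nat.not_even_iff_odd.mp hev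
  have hcC := T.D.card_centralizer P.2 T.hx0 T.idx T.fix0
  refine Or.inr ⟨rfl, k, by omega, hn, ?_⟩
  rw [SmallCentralizer.class_eq hn hcC]
  omega

end CfsgLib.LocalEvenB.IsolatedSylow
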