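import Mathlib
import Cfsg.Agent.Lib.LocalEvenB.IsolatedSylow.Central
import Cfsg.Agent.Lib.LocalEvenB.IsolatedRankTwo
import Cfsg.Agent.Lib.Fusion.NormalRankTwo
import Cfsg.Agent.Lib.ThreeTransp.Simplicity

/-!
The Sylow subgroups of a perfect subgroup in the presence of an isolated element, in rank two.
-/

set_option autoImplicit false
set_option linter.style.haveILetI false

open Subgroup Cfsg
open scoped commutatorElement

namespace CfsgLib.LocalEvenB.IsolatedSylow

variable {G : Type*} [Group G] [Finite G] {p : ℕ} [hp : Fact p.Prime] {x : G}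

theorem isolated_conj (hiso : IsIsolated x) (g : G) : IsIsolated (g * x * g⁻¹) := by
  intro h hc
  have e : (g⁻¹ * h * g) * x * (g⁻¹ * h * g)⁻¹ = g⁻¹ * (h * (g * x * g⁻¹) * h⁻¹) * g := by group
  have hc' : Commute x ((g⁻¹ * h * g) * x * (g⁻¹ * h * g)⁻¹) := by
    have := hc.map (MulAut.conj g⁻¹).toMonoidHom
    rw [e]
    simpa [mul_assoc] using this
  have := hiso _ hc'
  rw [e] at this
  calc h * (g * x * g⁻¹) * h⁻¹ = g * (g⁻¹ * (h * (g * x * g⁻¹) * h⁻¹) * g) * g⁻¹ := by group
    _ = g * x * g⁻¹ := by rw [this]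

/-- Without a conjugate of the isolated element the subgroup is cyclic. -/
theorem isCyclic_of_forall (hodd : p ≠ 2) (hrank : PRankLE p 2 G) (hx : orderOf x = p) (hiso : IsIsolated x)
    {Q : Subgroup G} (hQ : IsPGroup p Q) (hno : ∀ g : G, g * x * g⁻¹ ∉ Q) : IsCyclic Q := by
  by_contra hcyc
  obtain ⟨S, hQS⟩ := hQ.exists_le_sylow
  obtain ⟨R, hxR⟩ := (IsPGroup.of_card (p := p) (n := 1)
    (by rw [Nat.card_zpowers, hx, pow_one]) : IsPGroup p (zpowers x)).exists_le_sylow
  obtain ⟨g, hg⟩ := MulAction.exists_smul_eq G R S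
  have hxS : g * x * g⁻¹ ∈ (S : Subgroup G) := hg ▸ ⟨x, hxR (mem_zpowers x), rfl⟩
  have hcent := Isolated.le_centralizer (isolated_conj hiso g) S.2 hxS
  have htop : ¬ IsCyclic ↥(⊤ : Subgroup ↥Q) := fun h =>
    hcyc ((MulEquiv.isCyclic Subgroup.topEquiv).mp h)
  obtain ⟨E, -, -, hE, hEc⟩ := Fusion.NormalRankTwo.exists_normal_rankTwo hQ hodd htop
  obtain ⟨a, haE, ha1⟩ : ∃ a ∈ E, a ≠ 1 := by
    by_contra h
    push Not at h
    rw [show E = ⊥ from (eq_bot_iff_forall E).mpr h, card_bot] at hEc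
    exact (Nat.one_lt_pow (by norm_num) hp.out.one_lt).ne hEc
  have hao : orderOf a = p := orderOf_eq_prime (hE.2 a haE) ha1
  obtain ⟨b, hbE, hba⟩ : ∃ b ∈ E, b ∉ zpowers a := by
    by_contra h
    push Not at h
    have := card_le_of_le (show E ≤ zpowers a from h)
    rw [hEc, Nat.card_zpowers, hao] at this
    exact absurd this (not_le.mpr (lt_self_pow₀ hp.out.one_lt (by norm_num)))
  have hcom : Commute (a : G) b :=
    congrArg Subtype.val (congrArg Subtype.val (hE.1.1.1 ⟨a, haE⟩ ⟨b, hbE⟩))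
  have hxc : ∀ u : Q, Commute (u : G) (g * x * g⁻¹) := fun u =>
    mem_centralizer_singleton_iff.mp (hcent (hQS u.2))
  obtain ⟨i, j, hij⟩ := IsolatedRankTwo.exists_zpow_mul hrank (a := (a : G)) (b := (b : G))
    (y := g * x * g⁻¹) (by rw [Subgroup.orderOf_coe, hao])
    (by rw [← SubmonoidClass.coe_pow, hE.2 b hbE]; rfl)
    (by rw [conj_pow, ← hx, pow_orderOf_eq_one, mul_one, mul_inv_cancel])
    hcom (hxc a) (hxc b) (by
      intro h
      obtain ⟨k, hk⟩ := Subgroup.mem_zpowers_iff.mp h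
      exact hba (Subgroup.mem_zpowers_iff.mpr ⟨k, Subtype.ext (by simpa using hk)⟩))
  exact hno g (hij ▸ mul_mem (zpow_mem a.2 i) (zpow_mem b.2 j))

/-- With a conjugate of the isolated element, in a perfect subgroup. -/
theorem structure_of_mem (hodd : p ≠ 2) (hrank : PRankLE p 2 G) (hx : orderOf x = p) (hiso : IsIsolated x)
    {L : Subgroup G} (hL : commutator ↥L = ⊤) (P : Sylow p L) {g : G}
    (hg : g * x * g⁻¹ ∈ (P : Subgroup L).map L.subtype) :
    (Cfsg.IsExtraspecial p ↥(P : Subgroup L) ∧ Nat.card (P : Subgroup L) = p ^ 3 ∧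
        ∀ y ∈ (P : Subgroup L), y ^ p = 1) ∨
      (p = 3 ∧ ∃ k : ℕ, 2 ≤ k ∧ Nat.card (P : Subgroup L) = 3 ^ (2 * k + 1) ∧
        Group.nilpotencyClass ↥(P : Subgroup L) = 2 * k) := by
  classical
  obtain ⟨y, hyP, hy⟩ := hg
  have hyG : IsIsolated (y : G) := by
    rw [show (y : G) = g * x * g⁻¹ from hy]; exact isolated_conj hiso g
  have hiy : IsIsolated y := fun h hc => Subtype.ext (hyG h (hc.map L.subtype))
  have hyo : orderOf y = p := by
    rw [← Subgroup.orderOf_coe, show (y : G) = g * x * g⁻¹ from hy]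
    exact ((MulAut.conj g).orderOf_eq x).trans hx
  set C : Subgroup L := centralizer ({y} : Set L) with hC
  have hPC : (P : Subgroup L) ≤ C := Isolated.le_centralizer hiy P.2 hyP
  set N : Subgroup ↥(P : Subgroup L) := ((commutator ↥C).map C.subtype).subgroupOf P with hN
  haveI : N.Normal := ⟨fun n hn a => by
    obtain ⟨m, hm, he⟩ := mem_subgroupOf.mp hn
    refine mem_subgroupOf.mpr ⟨⟨(a : L), hPC a.2⟩ * m * ⟨(a : L), hPC a.2⟩⁻¹,
      (inferInstance : (commutator ↥C).Normal).conj_mem m hm _, ?_⟩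
    simp [← he]⟩
  have hNtop : N = ⊤ := by
    refine eq_top_of_moves P (hL ▸ le_top) N ?_ fun a b h hab => ?_
    · rw [_root_.commutator_def, Subgroup.commutator_le]
      intro u _ v _
      refine mem_subgroupOf.mpr ⟨⁅(⟨(u : L), hPC u.2⟩ : C), ⟨(v : L), hPC v.2⟩⁆, ?_, rfl⟩
      exact commutator_mem_commutator (mem_top _) (mem_top _)
    have hbc : y ∈ centralizer ({(b : L)} : Set L) :=
      mem_centralizer_singleton_iff.mpr (mem_centralizer_singleton_iff.mp (hPC b.2)).symm
    have hgy : h * y * h⁻¹ ∈ centralizer ({(b : L)} : Set L) := by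
      refine mem_centralizer_singleton_iff.mpr ?_
      rw [← hab]
      exact ((show Commute y (a : L) from
        (mem_centralizer_singleton_iff.mp (hPC a.2)).symm).map (MulAut.conj h).toMonoidHom).eq
    obtain ⟨d, hd, hdy⟩ := Isolated.exists_conj (p := p) ⟨1, by rw [hyo, pow_one]⟩ hiy hbc hgy
    have hc : d * h ∈ C := mem_centralizer_singleton_iff.mpr (mul_inv_eq_iff_eq_mul.mp (by
      conv_rhs => rw [← hdy]
      group))
    refine mem_subgroupOf.mpr ⟨⁅(⟨(a : L), hPC a.2⟩ : C)⁻¹, ⟨d * h, hc⟩⁆,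
      commutator_mem_commutator (mem_top _) (mem_top _), ?_⟩
    have hconj : d * h * (a : L) * (d * h)⁻¹ = (b : L) := by
      rw [show d * h * (a : L) * (d * h)⁻¹ = d * (h * (a : L) * h⁻¹) * d⁻¹ by group, hab,
        mem_centralizer_singleton_iff.mp hd, mul_inv_cancel_right]
    simp only [Subgroup.coe_subtype, commutatorElement_def, Subgroup.coe_mul, Subgroup.coe_inv, inv_inv]
    rw [← hconj]
    group
  have hle : ((P.subtype hPC : Sylow p C) : Subgroup C) ≤ commutator ↥C := by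
    rintro ⟨u, huC⟩ hu
    obtain ⟨m, hm, he⟩ := mem_subgroupOf.mp (hNtop.ge (mem_top (⟨u, hu⟩ : ↥(P : Subgroup L))))
    exact (Subtype.ext he : m = ⟨u, huC⟩) ▸ hm
  let e : ↥((P.subtype hPC : Sylow p C) : Subgroup C) ≃* ↥(P : Subgroup L) :=
    subgroupOfEquivOfLe hPC
  have hrk : ∀ E : Subgroup ↥((P.subtype hPC : Sylow p C) : Subgroup C),
      Cfsg.IsElementaryAbelian p E → Nat.card E ≤ p ^ 2 := by
    intro E hE
    set f : ↥((P.subtype hPC : Sylow p C) : Subgroup C) →* G :=
      L.subtype.comp (C.subtype.comp (Subgroup.subtype _)) with hf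
    have hfi : Function.Injective f :=
      L.subtype_injective.comp (C.subtype_injective.comp (Subgroup.subtype_injective _))
    rw [← card_map_of_injective (K := E) hfi]
    haveI := hE.1
    refine hrank _ (Subgroup.map_isMulCommutative E f) ?_
    rintro _ ⟨u, hu, rfl⟩
    rw [← map_pow, hE.2 u hu, map_one]
  have hyC : y ∈ C := mem_centralizer_singleton_iff.mpr rfl
  rcases structure_of_central hodd (P.subtype hPC) (x := ⟨y, hyC⟩) (show y ∈ (P : Subgroup L) from hyP)
    (Subgroup.mem_center_iff.mpr fun c => Subtype.ext (mem_centralizer_singleton_iff.mp c.2))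
    (by rw [Subgroup.orderOf_mk, hyo]) hle hrk with ⟨hext, hcard, hexp⟩ | ⟨hp3, k, hk, hcard, hcl⟩
  · refine Or.inl ⟨ThreeTransp.Simplicity.isExtraspecial_of_equiv e hext,
      (Nat.card_congr e.toEquiv).symm.trans hcard, fun u hu => ?_⟩
    obtain ⟨v, hv⟩ := e.surjective ⟨u, hu⟩
    have := congrArg Subtype.val (congrArg e (hexp v))
    rw [map_pow, hv, map_one] at this
    simpa using this
  · refine Or.inr ⟨hp3, k, hk, (Nat.card_congr e.toEquiv).symm.trans hcard, ?_⟩
    haveI : Group.IsNilpotent ↥(P : Subgroup L) := P.2.isNilpotent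
    haveI : Group.IsNilpotent ↥((P.subtype hPC : Sylow p C) : Subgroup C) :=
      (P.subtype hPC).2.isNilpotent
    rw [← hcl]
    exact le_antisymm (nilpotencyClass_le_of_surjective e.toMonoidHom e.surjective)
      (nilpotencyClass_le_of_surjective e.symm.toMonoidHom e.symm.surjective)

end CfsgLib.LocalEvenB.IsolatedSylow
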